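import Cfsg.Agent.Lib.SmallSimple.Order5616.GL
import Cfsg.Agent.Lib.GLTwoThree.Degree13
import Cfsg.Agent.Lib.GLTwoThree.Simple

/-!
# The simple groups of order 5616
-/

set_option autoImplicit false
set_option linter.style.haveILetI false

namespace Cfsg.Agent.SmallSimple.Order5616

open Subgroup

/-- A simple group of order 5616 is `PSL(3, 3)`. -/
theorem iso_psl {G : Type*} [Group G] [Finite G] [IsSimpleGroup G] (h : Nat.card G = 5616) :
    Nonempty (G ≃* Matrix.ProjectiveSpecialLinearGroup (Fin 3) (ZMod 3)) := by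
  classical
  haveI := Fintype.ofFinite G
  haveI : Fact (Nat.Prime 3) := ⟨Nat.prime_three⟩
  haveI : Fact (Nat.Prime 2) := ⟨Nat.prime_two⟩
  obtain ⟨t, ht⟩ := exists_prime_orderOf_dvd_card' (G := G) 2 (h ▸ by norm_num)
  obtain ⟨v, hv⟩ := exists_prime_orderOf_dvd_card' (G := G) 3 (h ▸ by norm_num)
  have hO : Cfsg.pResidual 2 G = ⊤ := GLTwoThree.pResidual_eq_top_of_simple (g := v)
    (fun e => by rw [e, orderOf_one] at hv; norm_num at hv) (by rw [hv]; norm_num)
  obtain ⟨e⟩ := (exists_setup h ht).iso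
  obtain ⟨φ, E⟩ := GLTwoThree.exists_embedded ht e
  rcases E.order' hO with ⟨-, h18⟩ | h'
  · obtain ⟨P, D⟩ := E.exists_threeData h h18 (E.all_conj hO)
    exact E.equiv_PSL h (E.all_conj hO) D
  · omega

/-- Two simple groups of order 5616 are isomorphic. -/
theorem unique {G H : Type*} [Group G] [Finite G] [IsSimpleGroup G] [Group H] [Finite H] [IsSimpleGroup H]
    (hG : Nat.card G = 5616) (hH : Nat.card H = 5616) : Nonempty (G ≃* H) := by
  obtain ⟨a⟩ := iso_psl hG
  obtain ⟨b⟩ := iso_psl hH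
  exact ⟨a.trans b.symm⟩

end Cfsg.Agent.SmallSimple.Order5616
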