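import Cfsg.Agent.Lib.SmallSimple.Orders6232.E
import Cfsg.Agent.Lib.SmallSimple.Orders3640.Tools
import Cfsg.Agent.Lib.PrimeBlock.Tools

/-!
# The principal exceptional family at 13 for a simple group of order 5616

The characters of degree not divisible by 13 have degrees `1, 12, 27, 16, 16, 16, 16`, and one
linear relation holds between them off the classes of elements of order 13.
-/

set_option autoImplicit false
set_option linter.style.haveILetI false
set_option maxRecDepth 100000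

namespace Cfsg.Agent.SmallSimple.Order5616

open Subgroup MulAction
open Cfsg.Agent.Characters Cfsg.Agent.OddChar Cfsg.Agent.SmallSimple.Exceptional

universe u

variable {G : Type u} [Group G] [Fintype G]

/-- The exceptional characters, with their coefficients. -/
theorem exceptional [IsSimpleGroup G] (hG : ¬ IsMulCommutative G) {P : Subgroup G} (hP : SelfCent P)
    [Fintype (P →* ℂˣ)] {e t : ℕ} (he : P.relIndex (Subgroup.normalizer (P : Set G)) = e)
    (het : e * t + 1 = Nat.card P) (ht : 2 ≤ t) :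
    ∃ (r : Fin t → (P →* ℂˣ)) (μ : Fin t → Cfsg.IrrCharacter G) (ε c : ℤ),
      (∀ i, r i ≠ 1) ∧ (ε = 1 ∨ ε = -1) ∧ Function.Injective μ ∧ (∀ j, μ j ≠ trivIrr G) ∧
      (∀ i j, (μ i : G → ℂ) 1 = (μ j : G → ℂ) 1) ∧
      (∀ j i, a P (r i) (μ j) = c + if i = j then ε else 0) ∧
      (∀ χ, (∀ j, μ j ≠ χ) → ∀ i k, a P (r i) χ = a P (r k) χ) ∧
      ∀ χ : Cfsg.IrrCharacter G, ∑ φ : P →* ℂˣ, a P φ χ = e * ∑ i, a P (r i) χ := by
  classical
  haveI := Fintype.ofFinite (Cfsg.IrrCharacter G)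
  obtain ⟨r, hr1, hrinj, hsum⟩ := exists_reps hP he het
  haveI : NeZero t := ⟨by omega⟩
  set o : Fin t := 0
  have horbit : ∀ i j, SameOrbit P (r i) (r j) ↔ i = j := fun i j =>
    ⟨hrinj i j, fun h => h ▸ (sameOrbit_equivalence P).refl _⟩
  have hI : ∀ i j, Cfsg.classInner (A P (r i)) (A P (r j)) = (e : ℂ) + if i = j then 1 else 0 := by
    intro i j
    rw [inner_A_eq hP (hr1 i) (hr1 j), he, if_congr (horbit i j) rfl rfl]
  have hgen : ∀ i, Cfsg.IsGeneralizedCharacter G (A P (r i)) := fun i => A_isGen _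
  obtain ⟨ε, μ, hε, hμ, hd⟩ := Lattice.exists_differences o (fun i => A P (r i) - A P (r o))
    (sub_self _) (fun i _ => isGen_sub (hgen i) (hgen o))
    (fun i _ => by simp [A_one])
    (fun i hi => by
      simp only [classInner_sub_left, classInner_sub_right, hI, if_true, if_neg hi, if_neg (Ne.symm hi)]
      ring)
    (fun i j hi hj hij => by
      simp only [classInner_sub_left, classInner_sub_right, hI, if_true, if_neg hi, if_neg (Ne.symm hj),
        if_neg hij]
      ring)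
  have hε0 : ε ≠ 0 := by rcases hε with h | h <;> omega
  let f : Cfsg.IrrCharacter G → Fin t → ℤ := fun χ i => a P (r i) χ
  have hrel : ∀ χ i, f χ i = f χ o + ε * ((if μ i = χ then 1 else 0) - (if μ o = χ then 1 else 0)) := by
    intro χ i
    have h := congrArg (fun θ : G → ℂ => Cfsg.classInner θ (χ : G → ℂ)) (hd i)
    simp only [classInner_sub_left, classInner_smul_left, classInner_irr,
      Lattice.coeff_spec (hgen _)] at h
    have h' : ((f χ i : ℤ) : ℂ) - (f χ o : ℂ) =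
        ((ε * ((if μ i = χ then 1 else 0) - (if μ o = χ then 1 else 0)) : ℤ) : ℂ) := by
      push_cast; exact h
    rw [← Int.cast_sub, Int.cast_inj] at h'
    linarith
  set c : ℤ := f (μ o) o - ε with hc
  have hkey : ∀ j, j ≠ o → f (μ j) o = c := by
    intro j hj
    have h := congrArg (fun θ : G → ℂ => Cfsg.classInner θ (A P (r o))) (hd j)
    simp only [classInner_sub_left, classInner_smul_left, hI, if_true, if_neg hj] at h
    rw [classInner_conj_symm (A P (r o)) (μ j : G → ℂ), classInner_conj_symm (A P (r o)) (μ o : G → ℂ),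
      Lattice.coeff_spec (hgen o), Lattice.coeff_spec (hgen o), map_intCast, map_intCast] at h
    have h' : (-1 : ℤ) = ε * (f (μ j) o - f (μ o) o) := by
      have h2 : ((-1 : ℤ) : ℂ) = ((ε * (f (μ j) o - f (μ o) o) : ℤ) : ℂ) := by
        push_cast; simp only [f, a]; linear_combination h
      exact_mod_cast h2
    rcases hε with h1 | h1 <;> rw [h1] at h' <;> rw [hc, h1] <;> linarith
  have hμval : ∀ j i, f (μ j) i = c + if i = j then ε else 0 := by
    intro j i
    rw [hrel, if_congr (hμ.eq_iff) rfl rfl, if_congr (hμ.eq_iff) rfl rfl]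
    by_cases hj : j = o
    · subst hj
      rw [if_pos rfl, show f (μ o) o = c + ε by omega]
      split_ifs <;> ring
    · rw [hkey j hj, if_neg (Ne.symm hj)]
      split_ifs <;> ring
  have hμne : ∀ j, μ j ≠ trivIrr G := by
    intro j hj
    have htriv : ∀ i, f (trivIrr G) i = 1 := fun i =>
      Lattice.coeff_eq_of_inner (by simpa using inner_A_one (hr1 i))
    obtain ⟨k, hk⟩ : ∃ k : Fin t, k ≠ j := by
      by_cases h : j = o
      · exact ⟨⟨1, by omega⟩, by subst h; simp [o, Fin.ext_iff]⟩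
      · exact ⟨o, Ne.symm h⟩
    have h1 := hμval j j
    have h2 := hμval j k
    rw [hj, htriv, if_pos rfl] at h1
    rw [hj, htriv, if_neg hk] at h2
    omega
  have hdeg : ∀ j, (μ j : G → ℂ) 1 = (μ o : G → ℂ) 1 := by
    intro j
    have h := congrFun (hd j) 1
    simp only [Pi.sub_apply, A_one, sub_self, Pi.smul_apply, smul_eq_mul] at h
    rcases mul_eq_zero.1 h.symm with h0 | h0
    · exact absurd (Int.cast_eq_zero.1 h0) hε0
    · exact sub_eq_zero.1 h0
  refine ⟨r, μ, ε, c, hr1, hε, hμ, hμne, fun i j => (hdeg i).trans (hdeg j).symm, hμval,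
    fun χ hχ i k => ?_, fun χ => hsum χ⟩
  show f χ i = f χ k
  rw [hrel χ i, hrel χ k, if_neg (hχ i), if_neg (hχ k), if_neg (hχ o)]

/-- The characters. -/
structure Block (G : Type u) [Group G] [Fintype G] where
  a : Cfsg.IrrCharacter G
  b : Cfsg.IrrCharacter G
  μ : Fin 4 → Cfsg.IrrCharacter G
  inj : Function.Injective μ
  deg_a : (a : G → ℂ) 1 = 12
  deg_b : (b : G → ℂ) 1 = 27
  deg_μ : ∀ i, (μ i : G → ℂ) 1 = 16
  rel : ∀ (i : Fin 4) (g : G), ¬ 13 ∣ orderOf g →
    1 - (a : G → ℂ) g + (b : G → ℂ) g - (μ i : G → ℂ) g = 0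
  rest : ∀ χ : Cfsg.IrrCharacter G, χ ≠ trivIrr G → χ ≠ a → χ ≠ b → (∀ i, μ i ≠ χ) →
    ∃ m : ℕ, (χ : G → ℂ) 1 = ((13 * m : ℕ) : ℂ)
  cent13 : ∀ g : G, g ≠ 1 → ¬ 13 ∣ orderOf g → ¬ 13 ∣ Nat.card (centralizer ({g} : Set G))
  no13 : ∀ u v : G, orderOf u = 2 → orderOf v = 2 → ¬ 13 ∣ orderOf (u * v)

/-- The possible signed degrees. -/
theorem items_spec : ∀ f ∈ [(-1 : ℤ), 1], ∀ d ∈ List.range 75, 1 < d → d ∣ 5616 →
    (13 : ℤ) ∣ (d : ℤ) - f → f = 1 ∧ d = 27 ∨ f = -1 ∧ d = 12 := by decide +kernel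

/-- The degree of the exceptional characters. -/
theorem excep_spec : ∀ ε ∈ [(-1 : ℤ), 1], ∀ X ∈ List.range 38, 1 < X → X ∣ 5616 →
    (13 : ℤ) ∣ (X : ℤ) + 3 * ε → ∀ u ∈ [((1 : ℤ), (27 : ℕ)), ((-1 : ℤ), 12)],
    ∀ v ∈ [((1 : ℤ), (27 : ℕ)), ((-1 : ℤ), 12)],
      1 + ε * X + (u.1 * u.2 + v.1 * v.2) = 0 → ε = -1 ∧ X = 16 ∧ u.1 + v.1 = 0 := by decide +kernel

theorem exists_block [IsSimpleGroup G] (h : Nat.card G = 5616) : Nonempty (Block G) := by
  classical
  have hG : ¬ IsMulCommutative G := Basic.not_comm_of_not_prime (by rw [h]; norm_num)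
  haveI : Fact (Nat.Prime 13) := ⟨by norm_num⟩
  haveI : Fact (Nat.Prime 2) := ⟨Nat.prime_two⟩
  obtain ⟨P, n, e, k, hP, hn, hk, hC, hN, hnm, hem, hpk, hO⟩ :=
    Orders6232.data (p := 13) hG (by norm_num) h (by norm_num) (by norm_num)
  have key : ∀ n ∈ (5616 / 13).divisors, ∀ e ∈ (13 - 1).divisors, Orders6232.Opt 5616 13 n e →
      (n = 27 ∧ (e = 2 ∨ e = 4)) ∨ (n = 144 ∧ e = 3) := by decide +kernel
  rcases key n hnm e hem hO with ⟨rfl, rfl | rfl⟩ | ⟨rfl, rfl⟩ <;> norm_num at hk <;> subst hk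
  · exact (Orders3640.false_of_facts hG 2 (by norm_num) h P hP hn hC hN (by norm_num)
      (by norm_num) (by decide +kernel)).elim
  · exact (Orders3640.false_of_facts hG 2 (by norm_num) h P hP hn hC hN (by norm_num)
      (by norm_num) (by decide +kernel)).elim
  rw [mul_one] at hC
  rw [one_mul] at hN
  have hSC := EvenPSL.selfCent_of_card P hP hC
  have hrel : (P : Subgroup G).relIndex (normalizer ((P : Subgroup G) : Set G)) = 3 := by
    have h2 := relIndex_mul_relIndex ⊥ (P : Subgroup G) (normalizer ((P : Subgroup G) : Set G)) bot_le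
      le_normalizer
    rw [relIndex_bot_left, relIndex_bot_left, hP, hN] at h2
    omega
  -- facts on elements of order thirteen
  have hgen : ∀ w : G, orderOf w = 13 → Nat.card (centralizer ({w} : Set G)) = 13 ∧
      ∀ g : G, g * w * g⁻¹ = w⁻¹ → orderOf g ≠ 2 := by
    intro w hw
    have hall : ∀ P' : Sylow 13 G, Nat.card (P' : Subgroup G) = 13 := fun P' => by
      rw [Basic.card_sylow_eq_pow (a := 1) (m := 432) (by rw [h]; norm_num) (by norm_num) P', pow_one]
    obtain ⟨Q, hwQ, hw1⟩ := Order2520.exists_sylow hall hw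
    have hQ13 := hall Q
    refine ⟨?_, fun g hg hg2 => ?_⟩
    · rw [Order2520.cent_eq hQ13 hwQ hw1, PrimeBlock.card_centralizer_sylow P Q, hC]
    · have hgN : g ∈ normalizer ((Q : Subgroup G) : Set G) := by
        refine Sylow.smul_eq_iff_mem_normalizer.1 ?_
        refine Order2520.eq_of_fixed hQ13 (inv_mem hwQ) (inv_ne_one.2 hw1) ?_
        rw [← hg, mul_smul, mul_smul, inv_smul_smul,
          Sylow.smul_eq_iff_mem_normalizer.2 (le_normalizer hwQ)]
      have hd := orderOf_dvd_natCard (⟨g, hgN⟩ : normalizer ((Q : Subgroup G) : Set G))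
      rw [Subgroup.orderOf_mk, hg2, Orders6232.card_normalizer_sylow Q hn h] at hd
      norm_num at hd
  haveI := Fintype.ofFinite (Cfsg.IrrCharacter G)
  haveI : Finite ((P : Subgroup G) →* ℂˣ) := Nat.finite_of_card_ne_zero
    (by rw [card_dual hSC]; exact Nat.card_pos.ne')
  haveI := Fintype.ofFinite ((P : Subgroup G) →* ℂˣ)
  obtain ⟨r, μ, ε, c, hr1, hε, hμ, hμne, hμdeg, hμval, hconst, hsum⟩ :=
    exceptional hG hSC hrel (t := 4) (by rw [hP]) (by norm_num)
  choose deg hdeg0 hdeg using fun χ : Cfsg.IrrCharacter G => irr_one_pos χ.2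
  have hdvd : ∀ χ : Cfsg.IrrCharacter G, deg χ ∣ 5616 := fun χ => by
    obtain ⟨d, hd1, -, hd2⟩ := irr_degree_dvd_card χ.2
    have : deg χ = d := by exact_mod_cast (hdeg χ).symm.trans hd1
    exact h ▸ this ▸ hd2
  have hXeq : ∀ j, deg (μ j) = deg (μ 0) := fun j => by
    have := hμdeg j 0
    rw [hdeg, hdeg] at this
    exact_mod_cast this
  have hdtriv : deg (trivIrr G) = 1 := by
    have h := hdeg (trivIrr G)
    simp only [trivIrr_coe] at h
    exact_mod_cast h.symm
  let f : Cfsg.IrrCharacter G → ℤ := fun χ => Exceptional.a (P : Subgroup G) (r 0) χ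
  have htriv : ∀ i, Exceptional.a (P : Subgroup G) (r i) (trivIrr G) = 1 := fun i =>
    Lattice.coeff_eq_of_inner (by simpa using inner_A_one (hr1 i))
  set E : Finset (Cfsg.IrrCharacter G) := Finset.univ.image μ with hE
  set T := (Finset.univ.erase (trivIrr G)) \ E with hT
  set R := T.filter (fun χ => f χ ≠ 0) with hR
  have hsplit : ∀ {M : Type} [AddCommMonoid M] (F : Cfsg.IrrCharacter G → M),
      ∑ χ, F χ = F (trivIrr G) + ∑ j, F (μ j) + ∑ χ ∈ T, F χ := by
    intro M _ F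
    rw [← Finset.add_sum_erase _ _ (Finset.mem_univ (trivIrr G)), add_assoc]
    congr 1
    rw [← Finset.sum_image (f := F) (g := μ) (s := Finset.univ) (fun a _ b _ h => hμ h), ← hE,
      add_comm, hT, Finset.sum_sdiff]
    intro χ hχ
    obtain ⟨j, -, rfl⟩ := Finset.mem_image.1 hχ
    exact Finset.mem_erase.2 ⟨hμne j, Finset.mem_univ _⟩
  have hTne : ∀ χ ∈ T, χ ≠ trivIrr G ∧ ∀ j, μ j ≠ χ := fun χ hχ => by
    simp only [hT, hE, Finset.mem_sdiff, Finset.mem_erase, Finset.mem_image, Finset.mem_univ,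
      true_and, and_true, not_exists] at hχ
    exact hχ
  have hcongT : ∀ χ ∈ T, (13 : ℤ) ∣ (deg χ : ℤ) + 12 * f χ := by
    intro χ hχ
    have h := degree_congr hSC χ (hdeg χ)
    rw [hsum χ, hP, Finset.sum_congr rfl fun i _ => hconst χ (hTne χ hχ).2 i 0] at h
    simp only [Finset.sum_const, Finset.card_univ, Fintype.card_fin, nsmul_eq_mul] at h
    push_cast at h
    show (13 : ℤ) ∣ _ + 12 * Exceptional.a (P : Subgroup G) (r 0) χ
    rwa [show (12 : ℤ) * Exceptional.a (P : Subgroup G) (r 0) χ =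
      3 * (4 * Exceptional.a (P : Subgroup G) (r 0) χ) by ring]
  have hgenA : ∀ i, Cfsg.IsGeneralizedCharacter G (A (P : Subgroup G) (r i)) := fun i => A_isGen _
  -- norm
  have hsq : (c + ε) ^ 2 + 3 * c ^ 2 + ∑ χ ∈ R, f χ ^ 2 = 3 := by
    have h1 : ∑ χ, f χ ^ 2 = (4 : ℤ) := Lattice.sum_sq_of_norm (hgenA 0) (by
      rw [inner_A_eq hSC (hr1 0) (hr1 0), hrel, if_pos ((sameOrbit_equivalence _).refl _)]
      norm_num)
    rw [hsplit, Fin.sum_univ_four] at h1
    simp only [f, htriv, hμval] at h1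
    rw [hR, Finset.sum_filter_of_ne (by intro χ _ h e; simp [e] at h)]
    simp only [f, Fin.isValue] at h1 ⊢
    norm_num [Fin.ext_iff] at h1
    linarith
  have hdsum : 1 + (4 * c + ε) * (deg (μ 0) : ℤ) + ∑ χ ∈ R, f χ * (deg χ : ℤ) = 0 := by
    have h1 : ∑ χ, f χ * (deg χ : ℤ) = 0 := by
      have := Lattice.apply_eq_sum (hgenA 0) 1
      rw [A_one] at this
      simp only [hdeg] at this
      exact_mod_cast this.symm
    rw [hsplit, Fin.sum_univ_four] at h1
    simp only [f, htriv, hμval, hdtriv, hXeq] at h1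
    rw [hR, Finset.sum_filter_of_ne (by intro χ _ h e; simp [e] at h)]
    simp only [f, Fin.isValue] at h1 ⊢
    norm_num [Fin.ext_iff] at h1
    linarith
  have hd2 : 1 + 4 * deg (μ 0) ^ 2 + ∑ χ ∈ T, deg χ ^ 2 = 5616 := by
    have h1 := sum_degree_sq (G := G)
    simp only [hdeg] at h1
    have h' : ∑ χ : Cfsg.IrrCharacter G, deg χ ^ 2 = 5616 := by
      rw [← h]; exact_mod_cast h1
    rw [hsplit, Fin.sum_univ_four, hdtriv] at h'
    simp only [hXeq] at h'
    omega
  have hX38 : deg (μ 0) < 38 := by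
    by_contra hbig
    have := Nat.pow_le_pow_left (not_lt.1 hbig) 2
    norm_num at this
    omega
  have hXcong : (13 : ℤ) ∣ (deg (μ 0) : ℤ) - c + 3 * ε := by
    have h := degree_congr hSC (μ 0) (hdeg _)
    rw [hsum, hP, Fin.sum_univ_four] at h
    simp only [hμval] at h
    norm_num at h
    omega
  have hX1 := degree_ne_one hG (hμne 0) (hdeg _)
  have hRT : R ⊆ T := Finset.filter_subset _ _
  have hRsq : ∀ χ ∈ R, 1 ≤ f χ ^ 2 := fun χ hχ => by
    have h0 := (Finset.mem_filter.1 hχ).2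
    have := sq_pos_of_ne_zero h0
    omega
  have hRcard : (R.card : ℤ) ≤ ∑ χ ∈ R, f χ ^ 2 := by
    have h1 := Finset.sum_le_sum (f := fun _ => (1 : ℤ)) hRsq
    simp only [Finset.sum_const, nsmul_eq_mul, mul_one] at h1
    exact h1
  have hc : c = 0 := by
    have h0 : 0 ≤ ∑ χ ∈ R, f χ ^ 2 := Finset.sum_nonneg fun _ _ => sq_nonneg _
    have hc1 : c ≤ 1 := by nlinarith [sq_nonneg (c + ε)]
    have hc2 : -1 ≤ c := by nlinarith [sq_nonneg (c + ε)]
    by_contra hc0
    have h3 : ∑ χ ∈ R, f χ ^ 2 = 0 := by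
      rcases hε with rfl | rfl <;> interval_cases c <;> omega
    have hR0 : R = ∅ := Finset.card_eq_zero.1 (by omega)
    rw [hR0, Finset.sum_empty] at hdsum
    rw [h3] at hsq
    rcases hε with rfl | rfl <;> interval_cases c <;> omega
  subst hc
  have h2 : ∑ χ ∈ R, f χ ^ 2 = 2 := by rcases hε with rfl | rfl <;> linarith
  have hfR : ∀ χ ∈ R, f χ = 1 ∨ f χ = -1 := fun χ hχ => by
    have h1 := Finset.single_le_sum (fun χ _ => sq_nonneg (f χ)) hχ
    rw [h2] at h1
    have h0 := (Finset.mem_filter.1 hχ).2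
    have hb1 : f χ ≤ 1 := by nlinarith
    have hb2 : -1 ≤ f χ := by nlinarith
    omega
  have hR2 : R.card = 2 := by
    have h1 : ∑ χ ∈ R, f χ ^ 2 = (R.card : ℤ) := by
      rw [Finset.sum_congr rfl fun χ hχ => sq_eq_one_iff.2 (hfR χ hχ), Finset.sum_const, nsmul_eq_mul,
        mul_one]
    omega
  have hRitem : ∀ χ ∈ R, f χ = 1 ∧ deg χ = 27 ∨ f χ = -1 ∧ deg χ = 12 := fun χ hχ => by
    have hlt : deg χ < 75 := by
      have h1 := Finset.single_le_sum (fun χ _ => Nat.zero_le (deg χ ^ 2)) (hRT hχ)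
      by_contra hbig
      have := Nat.pow_le_pow_left (not_lt.1 hbig) 2
      norm_num at this
      omega
    refine items_spec (f χ) (by rcases hfR χ hχ with e | e <;> simp [e]) (deg χ) (List.mem_range.2 hlt)
      (degree_ne_one hG (hTne χ (hRT hχ)).1 (hdeg χ)) (hdvd χ) ?_
    have := hcongT χ (hRT hχ)
    omega
  obtain ⟨χ1, χ2, h12, hReq⟩ := Finset.card_eq_two.1 hR2
  rw [hReq, Finset.sum_pair h12] at hdsum
  simp only [mul_zero, zero_add] at hdsum
  have hu : ∀ χ ∈ R, (f χ, deg χ) ∈ [((1 : ℤ), 27), ((-1 : ℤ), 12)] := fun χ hχ => by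
    rcases hRitem χ hχ with ⟨e1, e2⟩ | ⟨e1, e2⟩ <;> simp [e1, e2]
  obtain ⟨hε1, hX16, hopp⟩ := excep_spec ε (by rcases hε with e | e <;> simp [e]) (deg (μ 0))
    (List.mem_range.2 hX38) hX1 (hdvd _) (by omega) (f χ1, deg χ1) (hu χ1 (by rw [hReq]; simp)) (f χ2, deg χ2)
    (hu χ2 (by rw [hReq]; simp)) (by simpa using hdsum)
  -- name the two characters
  obtain ⟨A₁, B₁, hab, hRab, hA, hB⟩ : ∃ A₁ B₁, A₁ ≠ B₁ ∧ R = {A₁, B₁} ∧
      (f A₁ = -1 ∧ deg A₁ = 12) ∧ (f B₁ = 1 ∧ deg B₁ = 27) := by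
    rcases hRitem χ1 (by rw [hReq]; simp) with h1 | h1 <;>
      rcases hRitem χ2 (by rw [hReq]; simp) with h3 | h3
    · simp only at hopp; omega
    · exact ⟨χ2, χ1, h12.symm, by rw [hReq, Finset.pair_comm], h3, h1⟩
    · exact ⟨χ1, χ2, h12, hReq, h1, h3⟩
    · simp only at hopp; omega
  refine ⟨⟨A₁, B₁, μ, hμ, by rw [hdeg, hA.2]; norm_num, by rw [hdeg, hB.2]; norm_num,
    fun i => by rw [hdeg, hXeq, hX16]; norm_num, fun i g hg => ?_, fun χ h1 hχa hχb h4 => ?_,
    fun g hg1 hg hd => ?_, fun u v hu2 hv2 hd => ?_⟩⟩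
  · have hA0 : A (P : Subgroup G) (r i) g = 0 := by
      rcases eq_or_ne g 1 with rfl | hg1
      · exact A_one _
      refine Induce.indFun_eq_zero _ _ g fun x => CharTheory.IndBasic.extendByZero_of_notMem _ _ fun hx => ?_
      have ho : orderOf (x⁻¹ * g * x) = orderOf g := by
        simpa using orderOf_injective (MulAut.conj x⁻¹).toMonoidHom (MulAut.conj x⁻¹).injective g
      have hd := orderOf_dvd_natCard (⟨_, hx⟩ : (P : Subgroup G))
      rw [Subgroup.orderOf_mk, ho, hP] at hd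
      rcases (Nat.dvd_prime (by norm_num)).1 hd with e | e
      · exact hg1 (orderOf_eq_one_iff.1 e)
      · exact hg (e ▸ dvd_rfl)
    have h1 := Lattice.apply_eq_sum (hgenA i) g
    rw [hA0, hsplit, Fin.sum_univ_four] at h1
    have hT0 : ∀ χ ∈ T, Lattice.coeff (A (P : Subgroup G) (r i)) χ = f χ := fun χ hχ =>
      hconst χ (hTne χ hχ).2 i 0
    rw [Finset.sum_congr rfl fun χ hχ => by rw [hT0 χ hχ], ← Finset.sum_filter_of_ne
      (p := fun χ => f χ ≠ 0) (by intro χ _ h e; simp [e] at h), ← hR, hRab, Finset.sum_pair hab,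
      hA.1, hB.1] at h1
    have hco : ∀ χ, Lattice.coeff (A (P : Subgroup G) (r i)) χ = Exceptional.a (P : Subgroup G) (r i) χ :=
      fun _ => rfl
    simp only [hco, htriv, hμval, hε1, trivIrr_coe] at h1
    fin_cases i <;> simp at h1 ⊢ <;> linear_combination -h1
  · refine ⟨deg χ / 13, ?_⟩
    have hχT : χ ∈ T := by
      simp only [hT, hE, Finset.mem_sdiff, Finset.mem_erase, Finset.mem_image, Finset.mem_univ,
        true_and, and_true, not_exists]
      exact ⟨h1, h4⟩
    have hf0 : f χ = 0 := by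
      by_contra hf
      have : χ ∈ R := Finset.mem_filter.2 ⟨hχT, hf⟩
      rw [hRab, Finset.mem_insert, Finset.mem_singleton] at this
      exact this.elim hχa hχb
    have := hcongT χ hχT
    rw [hf0, mul_zero, add_zero] at this
    rw [hdeg, Nat.mul_div_cancel' (by exact_mod_cast this)]
  · obtain ⟨⟨w, hw⟩, hwo⟩ := exists_prime_orderOf_dvd_card' (G := centralizer ({g} : Set G)) 13 hd
    rw [Subgroup.orderOf_mk] at hwo
    have hgw : g ∈ centralizer ({w} : Set G) :=
      mem_centralizer_singleton_iff.2 (mem_centralizer_singleton_iff.1 hw).symm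
    have := orderOf_dvd_natCard (⟨g, hgw⟩ : centralizer ({w} : Set G))
    rw [Subgroup.orderOf_mk, (hgen w hwo).1] at this
    rcases (Nat.dvd_prime (by norm_num)).1 this with e | e
    · exact hg1 (orderOf_eq_one_iff.1 e)
    · exact hg (e ▸ dvd_rfl)
  · set w := (u * v) ^ (orderOf (u * v) / 13)
    have hwo : orderOf w = 13 := orderOf_pow_orderOf_div (orderOf_pos _).ne' hd
    refine (hgen w hwo).2 u ?_ hu2
    have hu' : u * u = 1 := by rw [← pow_two, ← hu2, pow_orderOf_eq_one]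
    have hv' : v * v = 1 := by rw [← pow_two, ← hv2, pow_orderOf_eq_one]
    rw [← conj_pow, ← inv_pow, mul_inv_rev, inv_eq_of_mul_eq_one_right hu', inv_eq_of_mul_eq_one_right hv',
      ← mul_assoc, hu', one_mul]

end Cfsg.Agent.SmallSimple.Order5616
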