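import Cfsg.Agent.Lib.SmallSimple.Order2520.Tools

/-!
# An element of order three permuting three cosets
-/

set_option autoImplicit false
set_option linter.style.haveILetI false

namespace Cfsg.Agent.SmallSimple.Order5616

open Subgroup

variable {G : Type*} [Group G] [Finite G]

/-- Counting the elements of `X` that commute with an element of order three. -/
theorem commute_count_mod (X : Subgroup G) {v : G} (hv : v ^ 3 = 1)
    (hX : ∀ y ∈ X, v * y * v⁻¹ ∈ X) :
    Nat.card {y : G // y ∈ X ∧ Commute v y} % 3 = Nat.card X % 3 := by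
  haveI : Fact (Nat.Prime 3) := ⟨Nat.prime_three⟩
  haveI : Finite (ConjAct G) := Finite.of_equiv G ConjAct.toConjAct.toEquiv
  have hsm : ∀ y : G, ConjAct.toConjAct v • y = v * y * v⁻¹ := fun y => by
    rw [ConjAct.smul_def, ConjAct.ofConjAct_toConjAct]
  have h := Order2520.fixed_mod (G := ConjAct G) (p := 3) (x := ConjAct.toConjAct v)
    (by rw [← map_pow, hv, map_one]) (X : Set G) (fun y hy => by rw [hsm]; exact hX y hy)
  refine Eq.trans ?_ h
  refine congrArg (· % 3) (Nat.card_congr (Equiv.subtypeEquivRight fun y => and_congr_right fun _ => ?_))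
  rw [hsm]
  exact ⟨fun hc => by rw [hc.eq, mul_inv_cancel_right], fun he => mul_inv_eq_iff_eq_mul.1 he⟩

/-- The setting: `D` is central in the `2`-group `S` and is the set of fixed points of `v`, with four
cosets in `S`. -/
structure Three (S D : Subgroup G) (v : G) : Prop where
  le : D ≤ S
  card : Nat.card S = 4 * Nat.card D
  pow : ∀ x ∈ S, x ^ 16 = 1
  central : ∀ d ∈ D, ∀ x ∈ S, Commute d x
  fixed : ∀ d ∈ D, Commute v d
  v3 : v ^ 3 = 1
  stable : ∀ x ∈ S, v * x * v⁻¹ ∈ S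
  only : ∀ x ∈ S, Commute v x → x ∈ D

variable {S D : Subgroup G} {v : G}

theorem Three.conj_mem (T : Three S D v) {d : G} (hd : d ∈ D) : v * d * v⁻¹ ∈ D := by
  rwa [(T.fixed d hd).eq, mul_inv_cancel_right]

/-- The cosets of `i` and its two conjugates are distinct. -/
theorem Three.ne (T : Three S D v) {i : G} (hi : i ∈ S) (hiD : i ∉ D) : i⁻¹ * (v * i * v⁻¹) ∉ D := by
  intro he
  set e := i⁻¹ * (v * i * v⁻¹) with hedef
  have hj : v * i * v⁻¹ = i * e := by rw [hedef]; group
  have hve : v * e * v⁻¹ = e := by rw [(T.fixed e he).eq, mul_inv_cancel_right]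
  have h1 : v * (i * e) * v⁻¹ = i * e * e := by
    calc v * (i * e) * v⁻¹ = (v * i * v⁻¹) * (v * e * v⁻¹) := by group
      _ = i * e * e := by rw [hj, hve]
  have h2 : v * (i * e * e) * v⁻¹ = i * e * e * e := by
    calc v * (i * e * e) * v⁻¹ = (v * (i * e) * v⁻¹) * (v * e * v⁻¹) := by group
      _ = i * e * e * e := by rw [h1, hve]
  have h3 : i = i * e * e * e := by
    rw [← h2, ← h1, ← hj]
    calc i = v ^ 3 * i * (v ^ 3)⁻¹ := by rw [T.v3]; simp
      _ = v * (v * (v * i * v⁻¹) * v⁻¹) * v⁻¹ := by simp [pow_succ, mul_assoc]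
  have he3 : e ^ 3 = 1 := by
    rw [mul_assoc, mul_assoc] at h3
    have h4 : e * (e * e) = 1 := left_eq_mul.1 h3
    rw [pow_succ, pow_two, mul_assoc]
    exact h4
  have he16 := T.pow e (T.le he)
  have he1 : e = 1 := by
    have := pow_gcd_eq_one.2 ⟨he3, he16⟩
    simpa using this
  rw [he1, mul_one] at hj
  exact hiD (T.only i hi (mul_inv_eq_iff_eq_mul.1 hj))

theorem Three.rotate (T : Three S D v) {i : G} (hi : i ∈ S) (hiD : i ∉ D) :
    v * i * v⁻¹ ∈ S ∧ v * i * v⁻¹ ∉ D :=
  ⟨T.stable i hi, fun h => hiD (by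
    have h2 := T.conj_mem (T.conj_mem h)
    rwa [show v * (v * (v * i * v⁻¹) * v⁻¹) * v⁻¹ = v ^ 3 * i * (v ^ 3)⁻¹ by
      simp [pow_succ, mul_assoc], T.v3, inv_one,
      one_mul, mul_one] at h2)⟩

theorem Three.cycle (T : Three S D v) (i : G) : v * (v * (v * i * v⁻¹) * v⁻¹) * v⁻¹ = i := by
  rw [show v * (v * (v * i * v⁻¹) * v⁻¹) * v⁻¹ = v ^ 3 * i * (v ^ 3)⁻¹ by
      simp [pow_succ, mul_assoc], T.v3, inv_one,
    one_mul, mul_one]

/-- Membership of `x⁻¹ y` in `D` is symmetric. -/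
theorem symm_coset {x y : G} (h : x⁻¹ * y ∈ D) : y⁻¹ * x ∈ D := by
  simpa using inv_mem h

/-- The four cosets cover `S`. -/
theorem Three.cover (T : Three S D v) {i j k : G} (hi : i ∈ S) (hiD : i ∉ D) (hj : j = v * i * v⁻¹)
    (hk : k = v * j * v⁻¹) {x : G} (hx : x ∈ S) :
    x ∈ D ∨ i⁻¹ * x ∈ D ∨ j⁻¹ * x ∈ D ∨ k⁻¹ * x ∈ D := by
  classical
  by_contra hcon
  push Not at hcon
  obtain ⟨hx0, hxi, hxj, hxk⟩ := hcon
  obtain ⟨hjS, hjD⟩ := hj ▸ T.rotate hi hiD
  obtain ⟨hkS, hkD⟩ := hk ▸ T.rotate hjS hjD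
  have hij : i⁻¹ * j ∉ D := hj ▸ T.ne hi hiD
  have hjk : j⁻¹ * k ∉ D := hk ▸ T.ne hjS hjD
  have hki : k⁻¹ * i ∉ D := by
    have := T.ne hkS hkD
    rwa [show v * k * v⁻¹ = i by rw [hk, hj]; exact T.cycle i] at this
  let rep : Fin 5 → G := ![1, i, j, k, x]
  have hrS : ∀ a, rep a ∈ S := by
    intro a
    fin_cases a <;> simp [rep, one_mem, hi, hjS, hkS, hx]
  have hsep : ∀ a b : Fin 5, a < b → (rep a)⁻¹ * rep b ∉ D := by
    intro a b hab
    fin_cases a <;> fin_cases b <;> simp only [rep] at hab ⊢ <;> simp at hab ⊢ <;>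
      first
      | assumption
      | exact fun h => hki (symm_coset h)
  let φ : Fin 5 × D → S := fun p => ⟨rep p.1 * p.2, S.mul_mem (hrS _) (T.le p.2.2)⟩
  have hφ : Function.Injective φ := by
    intro p q hpq
    have he : rep p.1 * (p.2 : G) = rep q.1 * (q.2 : G) := congrArg Subtype.val hpq
    have hmem : (rep p.1)⁻¹ * rep q.1 ∈ D := by
      rw [show (rep p.1)⁻¹ * rep q.1 = (p.2 : G) * (q.2 : G)⁻¹ by
        rw [eq_mul_inv_iff_mul_eq, mul_assoc, ← he, inv_mul_cancel_left]]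
      exact D.mul_mem p.2.2 (inv_mem q.2.2)
    rcases lt_trichotomy p.1 q.1 with h | h | h
    · exact absurd hmem (hsep _ _ h)
    · exact Prod.ext h (Subtype.ext (mul_left_cancel (h ▸ he)))
    · exact absurd (symm_coset hmem) (hsep _ _ h)
  have hle := Nat.card_le_card_of_injective φ hφ
  rw [Nat.card_prod, Nat.card_eq_fintype_card (α := Fin 5), Fintype.card_fin, T.card] at hle
  have : 0 < Nat.card D := Nat.card_pos
  omega

/-- Squares lie in `D`. -/
theorem Three.sq_mem (T : Three S D v) {i : G} (hi : i ∈ S) (hiD : i ∉ D) : i * i ∈ D := by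
  set j := v * i * v⁻¹ with hj
  set k := v * j * v⁻¹ with hk
  have hki : v * k * v⁻¹ = i := by rw [hk, hj]; exact T.cycle i
  by_contra hsq
  have hconj : ∀ {a b e : G}, a * a = b * e → e ∈ D →
      (v * a * v⁻¹) * (v * a * v⁻¹) = (v * b * v⁻¹) * e := by
    intro a b e h he
    calc (v * a * v⁻¹) * (v * a * v⁻¹) = v * (a * a) * v⁻¹ := by group
      _ = v * b * v⁻¹ * (v * e * v⁻¹) := by rw [h]; group
      _ = v * b * v⁻¹ * e := by rw [(T.fixed e he).eq, mul_inv_cancel_right]
  -- three squarings return to `i`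
  have hfin : ∀ {a b c e : G}, a ∈ S → b ∈ S → c ∈ S → e ∈ D → a * a = b * e → b * b = c * e →
      c * c = a * e → a ∈ D := by
    intro a b c e ha hb hc he h1 h2 h3
    have ce : ∀ z ∈ S, Commute z e := fun z hz => (T.central e he z hz).symm
    have h8 : a ^ 8 = a * e ^ 7 := by
      calc a ^ 8 = (a * a) ^ 4 := by rw [← pow_two, ← pow_mul]
        _ = ((b * b) ^ 2) * e ^ 4 := by
          rw [h1, (ce b hb).mul_pow, show (4 : ℕ) = 2 * 2 from rfl, pow_mul, pow_two b]
        _ = (c * c) * e ^ 2 * e ^ 4 := by rw [h2, (ce c hc).mul_pow, pow_two c]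
        _ = a * e ^ 7 := by
          rw [h3, mul_assoc a, mul_assoc a, ← pow_succ', ← pow_add]
    have h7 : a ^ 7 ∈ D := by
      have : a ^ 7 = e ^ 7 := mul_left_cancel (a := a) (by rw [← pow_succ']; exact h8)
      rw [this]; exact pow_mem he 7
    have h49 : a = (a ^ 7) ^ 7 := by
      rw [← pow_mul, show 7 * 7 = 16 * 3 + 1 from rfl, pow_succ, pow_mul, T.pow a ha, one_pow, one_mul]
    rw [h49]; exact pow_mem h7 7
  obtain ⟨hjS, hjD⟩ := T.rotate hi hiD
  rw [← hj] at hjS hjD
  obtain ⟨hkS, hkD⟩ := T.rotate hjS hjD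
  rw [← hk] at hkS hkD
  rcases T.cover hi hiD hj hk (S.mul_mem hi hi) with h | h | h | h
  · exact hsq h
  · exact hiD (by rwa [inv_mul_cancel_left] at h)
  · set e := j⁻¹ * (i * i) with he
    have h1 : i * i = j * e := by rw [he, mul_inv_cancel_left]
    have h2 : j * j = k * e := by rw [hj, hk, hj]; exact hconj h1 h
    have h3 : k * k = i * e := by
      have := hconj h2 h
      rwa [← hk, hki] at this
    exact hiD (hfin hi hjS hkS h h1 h2 h3)
  · set e := k⁻¹ * (i * i) with he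
    have h1 : i * i = k * e := by rw [he, mul_inv_cancel_left]
    have h2 : j * j = i * e := by
      have := hconj h1 h
      rwa [← hj, hki] at this
    have h3 : k * k = j * e := by
      have := hconj h2 h
      rwa [← hk, ← hj] at this
    exact hiD (hfin hi hkS hjS h h1 h3 h2)

/-- Products of two of the representatives lie in the third coset. -/
theorem Three.mul_mem_third (T : Three S D v) {i : G} (hi : i ∈ S) (hiD : i ∉ D) :
    (v * (v * i * v⁻¹) * v⁻¹)⁻¹ * (i * (v * i * v⁻¹)) ∈ D ∧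
      (v * (v * i * v⁻¹) * v⁻¹)⁻¹ * ((v * i * v⁻¹) * i) ∈ D := by
  set j := v * i * v⁻¹ with hj
  set k := v * j * v⁻¹ with hk
  obtain ⟨hjS, hjD⟩ := T.rotate hi hiD
  rw [← hj] at hjS hjD
  have hii := T.sq_mem hi hiD
  have hjj := T.sq_mem hjS hjD
  have hij : i⁻¹ * j ∉ D := hj ▸ T.ne hi hiD
  refine ⟨?_, ?_⟩
  · rcases T.cover hi hiD hj hk (S.mul_mem hi hjS) with h | h | h | h
    · refine absurd ?_ hij
      rw [show i⁻¹ * j = (i * i)⁻¹ * (i * j) by group]
      exact D.mul_mem (inv_mem hii) h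
    · exact absurd (by rwa [inv_mul_cancel_left] at h) hjD
    · refine absurd ?_ hiD
      set e := j⁻¹ * (i * j) with he
      rw [show i = j * e * j⁻¹ by rw [he]; group, ← (T.central e h j hjS).eq, mul_inv_cancel_right]
      exact h
    · exact h
  · rcases T.cover hi hiD hj hk (S.mul_mem hjS hi) with h | h | h | h
    · refine absurd ?_ hij
      have h2 := D.mul_mem (inv_mem h) hjj
      rwa [show (j * i)⁻¹ * (j * j) = i⁻¹ * j by group] at h2
    · refine absurd ?_ hjD
      set e := i⁻¹ * (j * i) with he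
      rw [show j = i * e * i⁻¹ by rw [he]; group, ← (T.central e h i hi).eq, mul_inv_cancel_right]
      exact h
    · exact absurd (by rwa [inv_mul_cancel_left] at h) hiD
    · exact h

end Cfsg.Agent.SmallSimple.Order5616
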