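import Cfsg.Agent.Lib.SmallSimple.Order5616.Group

/-!
# The isomorphism of the centralizer of an involution with `GL(2, 3)`
-/

set_option autoImplicit false
set_option linter.style.haveILetI false
set_option linter.unusedSectionVars false
set_option maxRecDepth 100000

namespace Cfsg.Agent.SmallSimple.Order5616

open Subgroup

universe u

variable {G : Type u} [Group G] [Fintype G] {t : G}

theorem Setup.iso (T : Setup t) :
    Nonempty (centralizer ({t} : Set G) ≃* GL (Fin 2) (ZMod 3)) := by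
  classical
  haveI : Fact (Nat.Prime 2) := ⟨Nat.prime_two⟩
  haveI : Fact (Nat.Prime 3) := ⟨Nat.prime_three⟩
  set C := centralizer ({t} : Set G) with hC
  obtain ⟨v, hvC, hv⟩ := T.exists_three
  have hv3 : v ^ 3 = 1 := hv ▸ pow_orderOf_eq_one v
  obtain ⟨S₀, hS₀⟩ := T.exists_sylow
  -- the normal subgroup of order eight
  set Q₀ := (S₀ : Subgroup C).normalCore with hQ₀
  have hS₀n : ¬ (S₀ : Subgroup C).Normal := fun hn => T.no_normal_sixteen ((S₀ : Subgroup C).map C.subtype)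
    (map_subtype_le _) (by rw [card_map_of_injective C.subtype_injective, hS₀]) fun c hc x hx => by
      obtain ⟨y, hy, rfl⟩ := hx
      exact ⟨_, hn.conj_mem y hy ⟨c, hc⟩, rfl⟩
  have hQ₀8 : Nat.card Q₀ = 8 := by
    have hidx : (S₀ : Subgroup C).index = 3 := by
      have h2 := card_mul_index (S₀ : Subgroup C)
      rw [hS₀, T.card] at h2
      omega
    have hd : Q₀.index ∣ 6 := by
      rw [hQ₀, normalCore_eq_ker, index_ker]
      refine (card_subgroup_dvd_card _).trans ?_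
      rw [Nat.card_perm, ← Subgroup.index_eq_card, hidx]
      rfl
    have hd2 : Nat.card Q₀ ∣ 16 := hS₀ ▸ card_dvd_of_le (normalCore_le _)
    have h2 := card_mul_index Q₀
    rw [T.card] at h2
    have key : ∀ a ∈ (16 : ℕ).divisors, ∀ b ∈ (6 : ℕ).divisors, a * b = 48 → a = 8 ∨ a = 16 := by
      decide +kernel
    rcases key _ (Nat.mem_divisors.2 ⟨hd2, by norm_num⟩) _ (Nat.mem_divisors.2 ⟨hd, by norm_num⟩) h2 with e | e
    · exact e
    · refine absurd ?_ hS₀n
      rw [← eq_of_le_of_card_ge (normalCore_le (S₀ : Subgroup C)) (by rw [hS₀, ← hQ₀, e])]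
      infer_instance
  haveI : Q₀.Normal := normalCore_normal _
  set Q := Q₀.map C.subtype with hQ
  have hQC : Q ≤ C := map_subtype_le _
  have hQ8 : Nat.card Q = 8 := by rw [hQ, card_map_of_injective C.subtype_injective, hQ₀8]
  have hQn : ∀ c ∈ C, ∀ x ∈ Q, c * x * c⁻¹ ∈ Q := fun c hc x hx => by
    obtain ⟨y, hy, rfl⟩ := hx
    exact ⟨_, (normalCore_normal (S₀ : Subgroup C)).conj_mem y hy ⟨c, hc⟩, rfl⟩
  have hQiff : ∀ {x : G} (hx : x ∈ C), x ∈ Q ↔ (⟨x, hx⟩ : C) ∈ Q₀ := fun {x} hx =>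
    ⟨fun ⟨y, hy, e⟩ => (show y = ⟨x, hx⟩ from Subtype.ext e) ▸ hy, fun h => ⟨_, h, rfl⟩⟩
  have hcomm_t : ∀ x ∈ C, Commute t x := fun x hx => (T.mem_iff.1 hx).symm
  have htQ : t ∈ Q := by
    rw [hQiff T.tmem]
    have hc : ∀ y : C, Commute (⟨t, T.tmem⟩ : C) y := fun y => Subtype.ext (hcomm_t y y.2)
    haveI hnz : (zpowers (⟨t, T.tmem⟩ : C)).Normal := ⟨fun a ha y => by
      obtain ⟨m, rfl⟩ := mem_zpowers_iff.1 ha
      rw [← ((hc y).zpow_left m).eq, mul_inv_cancel_right]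
      exact zpow_mem (mem_zpowers _) m⟩
    refine normal_le_normalCore.2 ?_ (mem_zpowers _)
    refine zpowers_le.2 (Orders6232.mem_of_fixed (k := 1) (by rw [Subgroup.orderOf_mk, T.ord, pow_one])
      (Sylow.smul_eq_iff_mem_normalizer.2 (mem_normalizer_iff.2 fun y => ?_)))
    rw [(hc y).eq, mul_inv_cancel_right]
  have hvQ : v ∉ Q := fun h => by
    have := pow_card_of_mem h (n := 8) (by rw [hQ8])
    rw [← orderOf_dvd_iff_pow_eq_one, hv] at this
    norm_num at this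
  -- the subgroup of order twenty-four
  set W := Q ⊔ zpowers v with hW
  have hvN : zpowers v ≤ normalizer (Q : Set G) := by
    refine zpowers_le.2 (mem_normalizer_iff.2 fun x => ⟨fun hx => hQn v hvC x hx, fun hx => ?_⟩)
    have := hQn v⁻¹ (inv_mem hvC) _ hx
    simpa [mul_assoc] using this
  have hWmem : ∀ x ∈ W, ∃ q ∈ Q, ∃ m : ℕ, x = q * v ^ m := by
    intro x hx
    rw [← SetLike.mem_coe, coe_mul_of_right_le_normalizer_left Q (zpowers v) hvN] at hx
    obtain ⟨q, hq, z, hz, rfl⟩ := hx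
    obtain ⟨m, -, hm⟩ := Finset.mem_image.1 (mem_zpowers_iff_mem_range_orderOf.1 hz)
    exact ⟨q, hq, m, by rw [← hm]⟩
  have hQW : Q ≤ W := le_sup_left
  have hvW : v ∈ W := le_sup_right (a := Q) (mem_zpowers v)
  have hWC : W ≤ C := sup_le hQC (zpowers_le.2 hvC)
  have hW24 : Nat.card W = 24 := by
    refine le_antisymm ?_ (Nat.le_of_dvd Nat.card_pos ?_)
    · have hsurj : Function.Surjective (fun p : Q × zpowers v =>
          (⟨(p.1 : G) * (p.2 : G), W.mul_mem (hQW p.1.2) (le_sup_right (a := Q) p.2.2)⟩ : W)) := fun x => by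
        obtain ⟨q, hq, m, hx⟩ := hWmem x x.2
        exact ⟨(⟨q, hq⟩, ⟨v ^ m, pow_mem (mem_zpowers v) m⟩), Subtype.ext hx.symm⟩
      have := Nat.card_le_card_of_surjective _ hsurj
      rwa [Nat.card_prod, hQ8, Nat.card_zpowers, hv] at this
    · exact (show Nat.Coprime 8 3 by norm_num).mul_dvd_of_dvd_of_dvd (hQ8 ▸ card_dvd_of_le hQW)
        (by rw [← hv, ← Nat.card_zpowers]; exact card_dvd_of_le le_sup_right)
  have hWidx : (W.subgroupOf C).index = 2 := by
    have h2 := card_mul_index (W.subgroupOf C)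
    rw [Nat.card_congr (subgroupOfEquivOfLe hWC).toEquiv, hW24, T.card] at h2
    omega
  have hWn : ∀ c ∈ C, ∀ x ∈ W, c * x * c⁻¹ ∈ W := fun c hc x hx => by
    haveI : (W.subgroupOf C).Normal := normal_of_index_eq_two hWidx
    exact mem_subgroupOf.1 (Normal.conj_mem (inferInstance : (W.subgroupOf C).Normal) ⟨x, hWC hx⟩
      (mem_subgroupOf.2 hx) ⟨c, hc⟩)
  have hWtwo : ∀ x ∈ C, ∀ y ∈ C, x ∉ W → y ∉ W → x * y ∈ W := fun x hx y hy h1 h2 => by
    have := (mul_mem_iff_of_index_two hWidx (a := (⟨x, hx⟩ : C)) (b := ⟨y, hy⟩)).2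
      (by simp only [mem_subgroupOf]; exact ⟨fun h => absurd h h1, fun h => absurd h h2⟩)
    exact mem_subgroupOf.1 this
  have hWpow : ∀ y ∈ W, y ^ 16 = 1 → y ∈ Q := by
    intro y hy hy16
    obtain ⟨q, hq, m, rfl⟩ := hWmem y hy
    have hyC : q * v ^ m ∈ C := hWC hy
    rw [hQiff hyC, ← QuotientGroup.eq_one_iff]
    have h1 : (QuotientGroup.mk (⟨q * v ^ m, hyC⟩ : C) : C ⧸ Q₀) =
        (QuotientGroup.mk (⟨v, hvC⟩ : C) : C ⧸ Q₀) ^ m := by
      rw [show (⟨q * v ^ m, hyC⟩ : C) = ⟨q, hQC hq⟩ * ⟨v, hvC⟩ ^ m from rfl, QuotientGroup.mk_mul,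
        QuotientGroup.mk_pow, (QuotientGroup.eq_one_iff _).2 ((hQiff (hQC hq)).1 hq), one_mul]
    have h16 : ((QuotientGroup.mk (⟨q * v ^ m, hyC⟩ : C) : C ⧸ Q₀)) ^ 16 = 1 := by
      rw [← QuotientGroup.mk_pow, show (⟨q * v ^ m, hyC⟩ : C) ^ 16 = 1 from Subtype.ext hy16,
        QuotientGroup.mk_one]
    have h3 : ((QuotientGroup.mk (⟨q * v ^ m, hyC⟩ : C) : C ⧸ Q₀)) ^ 3 = 1 := by
      rw [h1, ← pow_mul, mul_comm m 3, pow_mul, ← QuotientGroup.mk_pow,
        show (⟨v, hvC⟩ : C) ^ 3 = 1 from Subtype.ext hv3, QuotientGroup.mk_one, one_pow]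
    have := pow_gcd_eq_one.2 ⟨h16, h3⟩
    simpa [show Nat.gcd 16 3 = 1 from rfl] using this
  -- the fixed points of `v` on `Q`
  set D := zpowers t with hD
  have hD2 : Nat.card D = 2 := by rw [hD, Nat.card_zpowers, T.ord]
  have hDQ : D ≤ Q := zpowers_le.2 htQ
  have hvt : Commute v t := T.mem_iff.1 hvC
  have hDeq : Q ⊓ centralizer ({v} : Set G) = D := by
    have hmod := commute_count_mod Q hv3 (hQn v hvC)
    rw [Nat.card_congr (Equiv.subtypeEquivRight (q := fun x => x ∈ Q ⊓ centralizer ({v} : Set G))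
      fun x => by
        rw [mem_inf, mem_centralizer_singleton_iff]
        exact and_congr_right fun _ => ⟨fun h => h.eq.symm, fun h => Eq.symm h⟩), hQ8] at hmod
    have hle : D ≤ Q ⊓ centralizer ({v} : Set G) :=
      zpowers_le.2 ⟨htQ, mem_centralizer_singleton_iff.2 hvt.eq.symm⟩
    have hd : Nat.card ↥(Q ⊓ centralizer ({v} : Set G)) ∣ 8 := hQ8 ▸ card_dvd_of_le inf_le_left
    have key : ∀ d ∈ (8 : ℕ).divisors, d % 3 = 8 % 3 → d = 2 ∨ d = 8 := by decide +kernel
    rcases key _ (Nat.mem_divisors.2 ⟨hd, by norm_num⟩) hmod with e | e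
    · exact (eq_of_le_of_card_ge hle (by rw [e, hD2])).symm
    · exfalso
      have hQeq : Q ⊓ centralizer ({v} : Set G) = Q := eq_of_le_of_card_ge inf_le_left (by rw [hQ8, e])
      refine T.not_normal_three hv hvC fun c hc => ?_
      obtain ⟨q, hq, m, hqm⟩ := hWmem _ (hWn c hc v hvW)
      have hqv : Commute q v := mem_centralizer_singleton_iff.1 ((hQeq.symm ▸ hq :
        q ∈ Q ⊓ centralizer ({v} : Set G))).2
      have h3 : (q * v ^ m) ^ 3 = 1 := by rw [← hqm, conj_pow, hv3]; group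
      rw [(hqv.pow_right m).mul_pow, ← pow_mul, mul_comm m 3, pow_mul, hv3, one_pow, mul_one] at h3
      have hq1 : q = 1 := by
        have := pow_gcd_eq_one.2 ⟨h3, pow_card_of_mem hq (n := 8) (by rw [hQ8])⟩
        simpa using this
      rw [hqm, hq1, one_mul]
      exact pow_mem (mem_zpowers v) m
  have hDmem : ∀ x, x ∈ D ↔ x = 1 ∨ x = t := fun x => by
    constructor
    · intro hx
      obtain ⟨m, hm2, hm⟩ := Finset.mem_image.1 (mem_zpowers_iff_mem_range_orderOf.1 hx)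
      rw [T.ord, Finset.mem_range] at hm2
      interval_cases m <;> simp_all
    · rintro (rfl | rfl)
      · exact one_mem _
      · exact mem_zpowers _
  have hDc : ∀ e ∈ D, ∀ x ∈ C, Commute e x := fun e he x hx => by
    rcases (hDmem e).1 he with rfl | rfl
    · exact Commute.one_left x
    · exact hcomm_t x hx
  have hee : ∀ e ∈ D, e * e = 1 := fun e he => by
    rcases (hDmem e).1 he with rfl | rfl
    · exact one_mul 1
    · exact T.tt
  have T3 : Three Q D v :=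
    { le := hDQ
      card := by rw [hQ8, hD2]
      pow := fun x hx => pow_card_of_mem hx (by rw [hQ8]; norm_num)
      central := fun e he x hx => hDc e he x (hQC hx)
      fixed := fun e he => (hDc e he v hvC).symm
      v3 := hv3
      stable := hQn v hvC
      only := fun x hx hc => hDeq ▸ ⟨hx, mem_centralizer_singleton_iff.2 hc.eq.symm⟩ }
  obtain ⟨i₀, hi₀Q, hi₀D⟩ : ∃ i ∈ Q, i ∉ D := by
    by_contra hcon
    push Not at hcon
    have := Nat.le_of_dvd Nat.card_pos (card_dvd_of_le (show Q ≤ D from hcon))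
    omega
  -- a pair with `v i v⁻¹ = j` and `v j v⁻¹ = i j`
  obtain ⟨i, hiQ, hiD, hk⟩ : ∃ i ∈ Q, i ∉ D ∧
      v * (v * i * v⁻¹) * v⁻¹ = i * (v * i * v⁻¹) := by
    obtain ⟨h1, -⟩ := T3.mul_mem_third hi₀Q hi₀D
    rcases (hDmem _).1 h1 with e | e
    · exact ⟨i₀, hi₀Q, hi₀D, inv_mul_eq_one.1 e⟩
    · refine ⟨i₀ * t, Q.mul_mem hi₀Q htQ, fun h => hi₀D ?_, ?_⟩
      · simpa using D.mul_mem h (inv_mem (mem_zpowers t))
      · have hj : v * (i₀ * t) * v⁻¹ = v * i₀ * v⁻¹ * t := by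
          calc v * (i₀ * t) * v⁻¹ = v * i₀ * (t * v⁻¹) := by group
            _ = v * i₀ * v⁻¹ * t := by rw [hvt.symm.inv_right.eq]; group
        have hjC : v * i₀ * v⁻¹ ∈ C := hQC (hQn v hvC _ hi₀Q)
        have hk' : v * (v * i₀ * v⁻¹ * t) * v⁻¹ = v * (v * i₀ * v⁻¹) * v⁻¹ * t := by
          calc v * (v * i₀ * v⁻¹ * t) * v⁻¹ = v * (v * i₀ * v⁻¹) * (t * v⁻¹) := by group
            _ = v * (v * i₀ * v⁻¹) * v⁻¹ * t := by rw [hvt.symm.inv_right.eq]; group
        rw [hj, hk']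
        have h' : i₀ * (v * i₀ * v⁻¹) = v * (v * i₀ * v⁻¹) * v⁻¹ * t := inv_mul_eq_iff_eq_mul.1 e
        calc v * (v * i₀ * v⁻¹) * v⁻¹ * t = i₀ * (v * i₀ * v⁻¹) := h'.symm
          _ = i₀ * (v * i₀ * v⁻¹) * (t * t) := by rw [T.tt, mul_one]
          _ = i₀ * t * (v * i₀ * v⁻¹ * t) := by
            rw [show i₀ * t * (v * i₀ * v⁻¹ * t) = i₀ * (t * (v * i₀ * v⁻¹)) * t by group,
              (hcomm_t _ hjC).eq]
            group
  set j := v * i * v⁻¹ with hj
  set k := v * j * v⁻¹ with hkdef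
  obtain ⟨hjQ, hjD⟩ := T3.rotate hiQ hiD
  rw [← hj] at hjQ hjD
  obtain ⟨hkQ, hkD⟩ := T3.rotate hjQ hjD
  rw [← hkdef] at hkQ hkD
  have hvk : v * k * v⁻¹ = i := by rw [hkdef, hj]; exact T3.cycle i
  have hvi' : v⁻¹ * i * v = k := by rw [← hvk]; group
  have hvj' : v⁻¹ * j * v = i := by rw [hj]; group
  have hvk' : v⁻¹ * k * v = j := by rw [hkdef]; group
  have hiC := hQC hiQ
  have hjC := hQC hjQ
  have hkC := hQC hkQ
  have hij : i⁻¹ * j ∉ D := hj ▸ T3.ne hiQ hiD
  have hjk : j⁻¹ * k ∉ D := hkdef ▸ T3.ne hjQ hjD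
  have hki : k⁻¹ * i ∉ D := by
    have := T3.ne hkQ hkD
    rwa [hvk] at this
  have hDv : ∀ e ∈ D, v * e * v⁻¹ = e := fun e he => by
    rw [(hDc e he v hvC).symm.eq, mul_inv_cancel_right]
  have hcover : ∀ x ∈ Q, x ∈ D ∨ i⁻¹ * x ∈ D ∨ j⁻¹ * x ∈ D ∨ k⁻¹ * x ∈ D :=
    fun x hx => T3.cover hiQ hiD hj hkdef hx
  have hjsq : j * j = i * i := by
    rw [hj, show v * i * v⁻¹ * (v * i * v⁻¹) = v * (i * i) * v⁻¹ by group, hDv _ (T3.sq_mem hiQ hiD)]
  have hksq : k * k = i * i := by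
    rw [hkdef, show v * j * v⁻¹ * (v * j * v⁻¹) = v * (j * j) * v⁻¹ by group, hjsq,
      hDv _ (T3.sq_mem hiQ hiD)]
  have hsqe : ∀ {a e : G}, a ∈ C → e ∈ D → a * e * (a * e) = a * a := fun {a e} ha he => by
    rw [show a * e * (a * e) = a * (e * a) * e by group, (hDc e he a ha).eq,
      show a * (a * e) * e = a * a * (e * e) by group, hee e he, mul_one]
  have hii : i * i = t := by
    rcases (hDmem _).1 (T3.sq_mem hiQ hiD) with e | e
    · refine absurd (fun x hx => ?_) (T.elem Q hQ8)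
      rcases hcover x hx with h | h | h | h
      · exact hee x h
      · rw [show x = i * (i⁻¹ * x) by group, hsqe hiC h, e]
      · rw [show x = j * (j⁻¹ * x) by group, hsqe hjC h, hjsq, e]
      · rw [show x = k * (k⁻¹ * x) by group, hsqe hkC h, hksq, e]
    · exact e
  rw [hii] at hjsq hksq
  have hQ2 : ∀ x ∈ Q, x * x = 1 → x ∈ D := fun x hx h2 => by
    rcases hcover x hx with h | h | h | h
    · exact h
    all_goals exfalso; refine T.t_ne ?_
    · rw [← h2, ← hii, show x = i * (i⁻¹ * x) by group, hsqe hiC h]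
    · rw [← h2, ← hjsq, show x = j * (j⁻¹ * x) by group, hsqe hjC h]
    · rw [← h2, ← hksq, show x = k * (k⁻¹ * x) by group, hsqe hkC h]
  have hji : j * i = i * j * t := by
    obtain ⟨-, h2⟩ := T3.mul_mem_third hiQ hiD
    rw [← hj, ← hkdef] at h2
    rcases (hDmem _).1 h2 with e | e
    · exfalso
      have hc : Commute i j := (hk.symm.trans (inv_mul_eq_one.1 e)).trans rfl
      have h4 : k * k = 1 := by
        rw [hk, show i * j * (i * j) = i * (j * i) * j by group, ← hc.eq,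
          show i * (i * j) * j = i * i * (j * j) by group, hii, hjsq, T.tt]
      exact T.t_ne (hksq.symm.trans h4)
    · rw [inv_mul_eq_iff_eq_mul.1 e, hk]
  -- an element outside `W` normalizing `⟨v⟩`
  obtain ⟨g, hgC, hgW, hgv⟩ : ∃ g ∈ C, g ∉ W ∧ (g * v * g⁻¹ = v ∨ g * v * g⁻¹ = v⁻¹) := by
    set w : C := ⟨v, hvC⟩
    have hwo : orderOf w = 3 := by rw [Subgroup.orderOf_mk, hv]
    obtain ⟨R, hR⟩ := (IsPGroup.of_card (n := 1) (by rw [Nat.card_zpowers, hwo, pow_one]) :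
      IsPGroup 3 (zpowers w)).exists_le_sylow
    have hR3 : Nat.card (R : Subgroup C) = 3 := by
      rw [Basic.card_sylow_eq_pow (a := 1) (m := 16) (by rw [T.card]; norm_num) (by norm_num) R]; norm_num
    have hReq : zpowers w = (R : Subgroup C) :=
      eq_of_le_of_card_ge hR (by rw [hR3, Nat.card_zpowers, hwo])
    set NR := normalizer ((R : Subgroup C) : Set C) with hNR
    have hN := Basic.card_normalizer_mul R
    rw [T.card, ← hNR] at hN
    have hmod := card_sylow_modEq_one 3 C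
    have hnd : Nat.card (Sylow 3 C) ∣ 48 := ⟨Nat.card NR, by rw [← hN]; ring⟩
    have h6 : 6 ∣ Nat.card NR := by
      have h3 : 3 ∣ Nat.card NR := hR3 ▸ card_dvd_of_le le_normalizer
      have h2 : 2 ∣ Nat.card NR := by
        have hc : ∀ y : C, Commute (⟨t, T.tmem⟩ : C) y := fun y => Subtype.ext (hcomm_t y y.2)
        have hm : (⟨t, T.tmem⟩ : C) ∈ NR := mem_normalizer_iff.2 fun y => by
          rw [(hc y).eq, mul_inv_cancel_right]
        have := orderOf_dvd_natCard (⟨_, hm⟩ : NR)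
        rwa [Subgroup.orderOf_mk, Subgroup.orderOf_mk, T.ord] at this
      exact (show Nat.Coprime 2 3 by norm_num).mul_dvd_of_dvd_of_dvd h2 h3
    have hne1 : Nat.card (Sylow 3 C) ≠ 1 := fun e => by
      rw [e, mul_one] at hN
      have hNtop : NR = ⊤ := eq_top_of_card_eq _ (hN.trans T.card.symm)
      refine T.not_normal_three hv hvC fun c hc => ?_
      have hcN : (⟨c, hc⟩ : C) ∈ NR := hNtop ▸ mem_top _
      have hm := (mem_normalizer_iff.1 hcN w).1 (hReq ▸ mem_zpowers w)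
      rw [← hReq, mem_zpowers_iff] at hm
      obtain ⟨m, hm⟩ := hm
      exact mem_zpowers_iff.2 ⟨m, congrArg Subtype.val hm⟩
    have hN12 : 12 ≤ Nat.card NR := by
      have key : ∀ n ∈ (48 : ℕ).divisors, ∀ a ∈ (48 : ℕ).divisors, a * n = 48 → n % 3 = 1 → 6 ∣ a → n ≠ 1 →
          12 ≤ a := by decide +kernel
      exact key _ (Nat.mem_divisors.2 ⟨hnd, by norm_num⟩) _
        (Nat.mem_divisors.2 ⟨⟨_, hN.symm⟩, by norm_num⟩) hN hmod h6 hne1
    have hconjv : ∀ y : NR, ((y : C) : G) * v * ((y : C) : G)⁻¹ ∈ zpowers v := fun y => by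
      have hm := (mem_normalizer_iff.1 y.2 w).1 (hReq ▸ mem_zpowers w)
      rw [← hReq, mem_zpowers_iff] at hm
      obtain ⟨m, hm⟩ := hm
      exact mem_zpowers_iff.2 ⟨m, congrArg Subtype.val hm⟩
    obtain ⟨y, hy⟩ : ∃ y : NR, ((y : C) : G) ∉ W := by
      by_contra hcon
      push Not at hcon
      have hsub : ∀ y : NR, ∃ p : D × zpowers v, ((y : C) : G) = (p.1 : G) * (p.2 : G) := by
        intro y
        obtain ⟨q, hq, m, hqm⟩ := hWmem _ (hcon y)
        have h1 : q * v * q⁻¹ ∈ zpowers v := by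
          have := hconjv y
          rwa [hqm, show q * v ^ m * v * (q * v ^ m)⁻¹ = q * v * q⁻¹ by group] at this
        obtain ⟨r, hr3, hr⟩ := Finset.mem_image.1 (mem_zpowers_iff_mem_range_orderOf.1 h1)
        rw [hv, Finset.mem_range] at hr3
        have hcom : v⁻¹ * (q * v * q⁻¹) ∈ Q := by
          rw [show v⁻¹ * (q * v * q⁻¹) = v⁻¹ * q * v * q⁻¹ by group]
          refine Q.mul_mem ?_ (inv_mem hq)
          have := hQn v⁻¹ (inv_mem hvC) q hq
          rwa [inv_inv] at this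
        rw [← hr] at hcom
        have hqD : q ∈ D := by
          refine T3.only q hq ?_
          interval_cases r
          · rw [pow_zero, mul_one] at hcom
            exact absurd (by simpa using inv_mem hcom) hvQ
          · rw [pow_one] at hr
            exact (mul_inv_eq_iff_eq_mul.1 hr.symm).symm
          · rw [pow_two, inv_mul_cancel_left] at hcom
            exact absurd hcom hvQ
        exact ⟨(⟨q, hqD⟩, ⟨v ^ m, pow_mem (mem_zpowers v) m⟩), hqm⟩
      choose p hp using hsub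
      have hinj : Function.Injective p := fun a b hab =>
        Subtype.ext (Subtype.ext (by rw [hp a, hp b, hab]))
      have := Nat.card_le_card_of_injective p hinj
      rw [Nat.card_prod, hD2, Nat.card_zpowers, hv] at this
      omega
    refine ⟨_, (y : C).2, hy, ?_⟩
    obtain ⟨r, hr3, hr⟩ := Finset.mem_image.1 (mem_zpowers_iff_mem_range_orderOf.1 (hconjv y))
    rw [hv, Finset.mem_range] at hr3
    interval_cases r
    · exact absurd (conj_eq_one_iff.1 (by rw [← hr, pow_zero])) (T.pow_ne hv)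
    · exact Or.inl (by rw [← hr, pow_one])
    · refine Or.inr ?_
      rw [← hr]
      refine eq_inv_of_mul_eq_one_left ?_
      rw [← pow_succ, hv3]
  have hg2W : g * g ∈ W := hWtwo g hgC g hgC hgW hgW
  have himg : ∀ h ∈ C, i⁻¹ * (h * i * h⁻¹) ∈ D ∨ j⁻¹ * (h * i * h⁻¹) ∈ D ∨ k⁻¹ * (h * i * h⁻¹) ∈ D := by
    intro h hh
    rcases hcover _ (hQn h hh i hiQ) with h0 | h0
    · refine absurd ?_ hiD
      rw [show i = h⁻¹ * (h * i * h⁻¹) * h by group, mul_assoc, (hDc _ h0 h hh).eq, inv_mul_cancel_left]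
      exact h0
    · exact h0
  have hvD : ∀ e ∈ D, ∀ a : G, v * (a * e) * v⁻¹ = v * a * v⁻¹ * e := fun e he a => by
    rw [show v * (a * e) * v⁻¹ = v * a * v⁻¹ * (v * e * v⁻¹) by group, hDv e he]
  rcases hgv with hgv | hgv
  · -- a central element outside `W`
    exfalso
    set g₁ := g ^ 3 with hg₁
    have hg₁C : g₁ ∈ C := pow_mem hgC 3
    have hcgv : Commute g v := mul_inv_eq_iff_eq_mul.1 hgv
    have hc1 : Commute g₁ v := hcgv.pow_left 3
    have hg₁W : g₁ ∉ W := fun h => hgW (by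
      rw [show g = (g * g)⁻¹ * g₁ by rw [hg₁, pow_three, ← mul_assoc g g g, inv_mul_cancel_left]]
      exact W.mul_mem (inv_mem hg2W) h)
    have hg₁2 : g₁ * g₁ ∈ D := by
      obtain ⟨q, hq, m, hqm⟩ := hWmem _ hg2W
      have hqv : Commute v q := by
        have h1 : Commute (g * g) v := hcgv.mul_left hcgv
        rw [hqm] at h1
        have h2 : Commute (q * v ^ m * (v ^ m)⁻¹) v := h1.mul_left ((Commute.refl v).pow_left m).inv_left
        rw [mul_inv_cancel_right] at h2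
        exact h2.symm
      have hqD := T3.only q hq hqv
      rw [hg₁, ← pow_add, show 3 + 3 = 2 * 3 from rfl, pow_mul, pow_two, hqm,
        (hqv.symm.pow_right m).mul_pow, ← pow_mul, mul_comm m 3, pow_mul, hv3, one_pow, mul_one]
      exact pow_mem hqD 3
    obtain ⟨e, he, hgi⟩ : ∃ e ∈ D, g₁ * i * g₁⁻¹ = i * e := by
      have hback : g₁ * (g₁ * i * g₁⁻¹) * g₁⁻¹ = i := by
        rw [show g₁ * (g₁ * i * g₁⁻¹) * g₁⁻¹ = (g₁ * g₁) * i * (g₁ * g₁)⁻¹ by group,
          (hDc _ hg₁2 i hiC).eq, mul_inv_cancel_right]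
      have hsh : ∀ a : G, g₁ * (v * a * v⁻¹) * g₁⁻¹ = v * (g₁ * a * g₁⁻¹) * v⁻¹ := fun a => by
        calc g₁ * (v * a * v⁻¹) * g₁⁻¹ = (g₁ * v) * a * (g₁ * v)⁻¹ := by group
          _ = (v * g₁) * a * (v * g₁)⁻¹ := by rw [hc1.eq]
          _ = v * (g₁ * a * g₁⁻¹) * v⁻¹ := by group
      have hge : ∀ e ∈ D, ∀ a : G, g₁ * (a * e) * g₁⁻¹ = g₁ * a * g₁⁻¹ * e := fun e he a => by
        rw [show g₁ * (a * e) * g₁⁻¹ = g₁ * a * g₁⁻¹ * (g₁ * e * g₁⁻¹) by group,
          ← (hDc e he g₁ hg₁C).eq, mul_inv_cancel_right]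
      rcases himg g₁ hg₁C with h | h | h
      · exact ⟨_, h, by group⟩
      · exfalso
        obtain ⟨e, he, h1⟩ : ∃ e ∈ D, g₁ * i * g₁⁻¹ = j * e := ⟨_, h, by group⟩
        rw [h1, hge e he, hj, hsh, h1, hvD e he, ← hkdef, mul_assoc, hee e he, mul_one] at hback
        exact hki (by rw [hback, inv_mul_cancel]; exact one_mem D)
      · exfalso
        obtain ⟨e, he, h1⟩ : ∃ e ∈ D, g₁ * i * g₁⁻¹ = k * e := ⟨_, h, by group⟩
        have hgj : g₁ * j * g₁⁻¹ = i * e := by rw [hj, hsh, h1, hvD e he, hvk]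
        have hgk : g₁ * k * g₁⁻¹ = j * e := by rw [hkdef, hsh, hgj, hvD e he, ← hj]
        rw [h1, hge e he, hgk, mul_assoc, hee e he, mul_one] at hback
        exact hij (by rw [hback, inv_mul_cancel]; exact one_mem D)
    have hgj : g₁ * j * g₁⁻¹ = j * e := by
      rw [hj]
      calc g₁ * (v * i * v⁻¹) * g₁⁻¹ = (g₁ * v) * i * (g₁ * v)⁻¹ := by group
        _ = (v * g₁) * i * (v * g₁)⁻¹ := by rw [hc1.eq]
        _ = v * (g₁ * i * g₁⁻¹) * v⁻¹ := by group
        _ = v * i * v⁻¹ * e := by rw [hgi, hvD e he]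
    have he1 : e = 1 := by
      have h1 : g₁ * k * g₁⁻¹ = k := by
        rw [hk, show g₁ * (i * j) * g₁⁻¹ = (g₁ * i * g₁⁻¹) * (g₁ * j * g₁⁻¹) by group, hgi, hgj,
          show i * e * (j * e) = i * (e * j) * e by group, (hDc e he j hjC).eq,
          show i * (j * e) * e = i * j * (e * e) by group, hee e he, mul_one]
      have h2 : g₁ * k * g₁⁻¹ = k * e := by
        rw [hkdef]
        calc g₁ * (v * j * v⁻¹) * g₁⁻¹ = (g₁ * v) * j * (g₁ * v)⁻¹ := by group
          _ = (v * g₁) * j * (v * g₁)⁻¹ := by rw [hc1.eq]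
          _ = v * (g₁ * j * g₁⁻¹) * v⁻¹ := by group
          _ = v * j * v⁻¹ * e := by rw [hgj, hvD e he]
      exact left_eq_mul.1 (h1.symm.trans h2)
    rw [he1, mul_one] at hgi hgj
    have hci : Commute g₁ i := mul_inv_eq_iff_eq_mul.1 hgi
    have hcj : Commute g₁ j := mul_inv_eq_iff_eq_mul.1 hgj
    have hck : Commute g₁ k := by rw [hk]; exact hci.mul_right hcj
    have hcQ : ∀ q ∈ Q, Commute g₁ q := fun q hq => by
      rcases hcover q hq with h | h | h | h
      · exact (hDc q h g₁ hg₁C).symm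
      · rw [show q = i * (i⁻¹ * q) by group]; exact hci.mul_right (hDc _ h g₁ hg₁C).symm
      · rw [show q = j * (j⁻¹ * q) by group]; exact hcj.mul_right (hDc _ h g₁ hg₁C).symm
      · rw [show q = k * (k⁻¹ * q) by group]; exact hck.mul_right (hDc _ h g₁ hg₁C).symm
    have hcW : ∀ x ∈ W, Commute g₁ x := fun x hx => by
      obtain ⟨q, hq, m, rfl⟩ := hWmem x hx
      exact (hcQ q hq).mul_right (hc1.pow_right m)
    have hsq4 : ∀ x ∈ C, x ^ 4 = 1 → x * x ∈ D := by
      intro x hx hx4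
      have hin : ∀ w ∈ W, w ^ 4 = 1 → w * w ∈ D := fun w hw hw4 => by
        have h2 : (w * w) * (w * w) = 1 := by rw [← hw4]; simp [pow_succ, mul_assoc]
        have hwQ : w * w ∈ Q := hWpow _ (W.mul_mem hw hw) (by
          rw [show (16 : ℕ) = 2 * 8 from rfl, pow_mul, pow_two, h2, one_pow])
        exact hQ2 _ hwQ h2
      by_cases hxW : x ∈ W
      · exact hin x hxW hx4
      set w := g₁⁻¹ * x with hw
      have hwW : w ∈ W := hWtwo _ (inv_mem hg₁C) x hx (fun h => hg₁W (by simpa using inv_mem h)) hxW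
      have hxe : x = g₁ * w := by rw [hw, mul_inv_cancel_left]
      have hg4 : g₁ ^ 4 = 1 := by
        rw [show (4 : ℕ) = 2 * 2 from rfl, pow_mul, pow_two g₁, pow_two]; exact hee _ hg₁2
      have hw4 : w ^ 4 = 1 := by
        have := hxe ▸ hx4
        rwa [(hcW w hwW).mul_pow, hg4, one_mul] at this
      rw [hxe, ← pow_two, (hcW w hwW).mul_pow, pow_two, pow_two]
      exact D.mul_mem hg₁2 (hin w hwW hw4)
    obtain ⟨u, y, hu2, huW, huC, hy, hyu⟩ : ∃ u y : G, u * u = 1 ∧ u ∉ W ∧ u ∈ C ∧ y * y = t ∧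
        Commute y u := by
      rcases (hDmem _).1 hg₁2 with h | h
      · exact ⟨g₁, i, h, hg₁W, hg₁C, hii, hci.symm⟩
      · refine ⟨g₁ * i, g₁, ?_, fun hm => hg₁W ?_, C.mul_mem hg₁C hiC, h,
          (Commute.refl g₁).mul_right hci⟩
        · rw [← pow_two, hci.mul_pow, pow_two, pow_two, h, hii, T.tt]
        · simpa using W.mul_mem hm (inv_mem (hQW hiQ))
    have hu1 : u ≠ 1 := fun e => huW (e ▸ one_mem W)
    have huo : orderOf u = 2 := orderOf_eq_prime (by rw [pow_two, hu2]) hu1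
    obtain ⟨f, hf⟩ := isConj_iff.1 (T.conj t u T.ord huo)
    have hfy : f⁻¹ * y * f ∈ C := by
      rw [T.mem_iff]
      show f⁻¹ * y * f * t = t * (f⁻¹ * y * f)
      calc f⁻¹ * y * f * t = f⁻¹ * (y * (f * t * f⁻¹)) * f := by group
        _ = f⁻¹ * ((f * t * f⁻¹) * y) * f := by rw [hf, hyu.eq]
        _ = t * (f⁻¹ * y * f) := by group
    have hsq : f⁻¹ * y * f * (f⁻¹ * y * f) = f⁻¹ * t * f := by
      rw [← hy]; group
    have h4 : (f⁻¹ * y * f) ^ 4 = 1 := by
      rw [show (4 : ℕ) = 2 * 2 from rfl, pow_mul, pow_two (f⁻¹ * y * f), hsq, pow_two,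
        show f⁻¹ * t * f * (f⁻¹ * t * f) = f⁻¹ * (t * t) * f by group, T.tt]
      group
    have h := hsq4 _ hfy h4
    rw [hsq] at h
    rcases (hDmem _).1 h with h | h
    · refine T.t_ne ?_
      calc t = f * (f⁻¹ * t * f) * f⁻¹ := by group
        _ = 1 := by rw [h]; group
    · refine huW ?_
      rw [← hf, show f * t * f⁻¹ = t by conv_lhs => rw [← h]
                                        group]
      exact hQW htQ
  -- `g` inverts `v`
  have hginv : ∀ a : G, g * (v * a * v⁻¹) * g⁻¹ = v⁻¹ * (g * a * g⁻¹) * v := fun a => by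
    rw [show g * (v * a * v⁻¹) * g⁻¹ = (g * v * g⁻¹) * (g * a * g⁻¹) * (g * v * g⁻¹)⁻¹ by group, hgv,
      inv_inv]
  have hgg : g * g ∈ D := by
    obtain ⟨q, hq, m, hqm⟩ := hWmem _ hg2W
    have h1 : Commute (g * g) v := mul_inv_eq_iff_eq_mul.1 (by
      rw [show g * g * v * (g * g)⁻¹ = g * (g * v * g⁻¹) * g⁻¹ by group, hgv,
        show g * v⁻¹ * g⁻¹ = (g * v * g⁻¹)⁻¹ by group, hgv, inv_inv])
    rw [hqm] at h1
    have h2 : Commute (q * v ^ m * (v ^ m)⁻¹) v := h1.mul_left ((Commute.refl v).pow_left m).inv_left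
    rw [mul_inv_cancel_right] at h2
    have hqD := T3.only q hq h2.symm
    have h3 : g * (g * g) * g⁻¹ = g * g := by group
    rw [hqm, show g * (q * v ^ m) * g⁻¹ = (g * q * g⁻¹) * (g * v ^ m * g⁻¹) by group,
      ← conj_pow, hgv, ← (hDc q hqD g hgC).eq, mul_inv_cancel_right] at h3
    have h4 : (v⁻¹) ^ m = v ^ m := mul_left_cancel h3
    rw [inv_pow, inv_eq_iff_mul_eq_one, ← pow_add, ← orderOf_dvd_iff_pow_eq_one, hv] at h4
    rw [hqm, orderOf_dvd_iff_pow_eq_one.1 (hv ▸ (by omega : 3 ∣ m) : orderOf v ∣ m), mul_one]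
    exact hqD
  obtain ⟨g, hgC, hgW, hgv, hgg, e, he, hgi⟩ : ∃ h ∈ C, h ∉ W ∧ h * v * h⁻¹ = v⁻¹ ∧ h * h ∈ D ∧
      ∃ e ∈ D, h * i * h⁻¹ = i * e := by
    have hsqv : ∀ {a : G}, a * v = v * a → a * g * (a * g) = a * (g * a * g⁻¹) * (g * g) := fun {a} _ => by
      group
    have hDv' : ∀ e ∈ D, ∀ a : G, v⁻¹ * (a * e) * v = v⁻¹ * a * v * e := fun e he a => by
      rw [show v⁻¹ * (a * e) * v = v⁻¹ * a * (e * v) by group, (hDc e he v hvC).eq]
      group
    rcases himg g hgC with h | h | h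
    · exact ⟨g, hgC, hgW, hgv, hgg, _, h, by group⟩
    · refine ⟨v⁻¹ * g, C.mul_mem (inv_mem hvC) hgC, fun hm => hgW ?_, ?_, ?_,
        j⁻¹ * (g * i * g⁻¹), h, ?_⟩
      · simpa using W.mul_mem hvW hm
      · rw [show v⁻¹ * g * v * (v⁻¹ * g)⁻¹ = v⁻¹ * (g * v * g⁻¹) * v by group, hgv]; group
      · rw [hsqv (a := v⁻¹) (by group), show g * v⁻¹ * g⁻¹ = (g * v * g⁻¹)⁻¹ by group, hgv, inv_inv,
          inv_mul_cancel, one_mul]
        exact hgg
      · rw [show v⁻¹ * g * i * (v⁻¹ * g)⁻¹ = v⁻¹ * (g * i * g⁻¹) * v by group]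
        conv_lhs => rw [show g * i * g⁻¹ = j * (j⁻¹ * (g * i * g⁻¹)) by group]
        rw [hDv' _ h, hvj']
    · refine ⟨v * g, C.mul_mem hvC hgC, fun hm => hgW ?_, ?_, ?_, k⁻¹ * (g * i * g⁻¹), h, ?_⟩
      · simpa using W.mul_mem (inv_mem hvW) hm
      · rw [show v * g * v * (v * g)⁻¹ = v * (g * v * g⁻¹) * v⁻¹ by group, hgv]; group
      · rw [hsqv (a := v) rfl, hgv, mul_inv_cancel, one_mul]
        exact hgg
      · rw [show v * g * i * (v * g)⁻¹ = v * (g * i * g⁻¹) * v⁻¹ by group]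
        conv_lhs => rw [show g * i * g⁻¹ = k * (k⁻¹ * (g * i * g⁻¹)) by group]
        rw [hvD _ h, hvk]
  have hginv : ∀ a : G, g * (v * a * v⁻¹) * g⁻¹ = v⁻¹ * (g * a * g⁻¹) * v := fun a => by
    rw [show g * (v * a * v⁻¹) * g⁻¹ = (g * v * g⁻¹) * (g * a * g⁻¹) * (g * v * g⁻¹)⁻¹ by group, hgv,
      inv_inv]
  have hDv' : ∀ a : G, v⁻¹ * (a * e) * v = v⁻¹ * a * v * e := fun a => by
    rw [show v⁻¹ * (a * e) * v = v⁻¹ * a * (e * v) by group, (hDc e he v hvC).eq]
    group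
  have hgj : g * j * g⁻¹ = k * e := by rw [hj, hginv, hgi, hDv', hvi']
  have hgk : g * k * g⁻¹ = j * e := by rw [hkdef, hginv, hgj, hDv', hvk']
  have het : e = t := by
    have h1 : g * k * g⁻¹ = i * e * (k * e) := by
      conv_lhs => rw [hk, show g * (i * j) * g⁻¹ = (g * i * g⁻¹) * (g * j * g⁻¹) by group, hgi, hgj]
    rw [hgk, show i * e * (k * e) = i * (e * k) * e by group, (hDc e he k hkC).eq,
      show i * (k * e) * e = i * k * (e * e) by group, hee e he, mul_one, hk,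
      show i * (i * j) = i * i * j by group, hii, (hcomm_t j hjC).eq] at h1
    exact mul_left_cancel h1
  subst het
  have hg2 : g * g = 1 := by
    rcases (hDmem _).1 hgg with h | h
    · exact h
    · exfalso
      refine T.isolated fun f hf => ?_
      set u := f * e * f⁻¹ with hu
      have huC : u ∈ C := T.mem_iff.2 hf.symm
      have hu2 : u * u = 1 := by
        rw [hu, show f * e * f⁻¹ * (f * e * f⁻¹) = f * (e * e) * f⁻¹ by group, T.tt]; group
      have hu1 : u ≠ 1 := fun h' => T.t_ne (conj_eq_one_iff.1 h')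
      by_cases huW : u ∈ W
      · exact ((hDmem u).1 (hQ2 u (hWpow u huW (by
          rw [show (16 : ℕ) = 2 * 8 from rfl, pow_mul, pow_two, hu2, one_pow])) hu2)).resolve_left hu1
      exfalso
      obtain ⟨q, hq, m, hqm⟩ := hWmem _ (hWtwo g⁻¹ (inv_mem hgC) u huC
        (fun h' => hgW (by simpa using inv_mem h')) huW)
      have hu' : u = g * (q * v ^ m) := by rw [← hqm, mul_inv_cancel_left]
      set a := v ^ (2 * m) with ha
      set q' := a⁻¹ * q * a with hq'
      have haC : a ∈ C := pow_mem hvC _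
      have hq'Q : q' ∈ Q := by
        have := hQn a⁻¹ (inv_mem haC) q hq
        rwa [inv_inv] at this
      have hga : a * g = g * a⁻¹ := by
        have h1 : g * a * g⁻¹ = a⁻¹ := by rw [ha, ← conj_pow, hgv, inv_pow]
        calc a * g = (g * a * g⁻¹)⁻¹ * g := by rw [h1, inv_inv]
          _ = g * a⁻¹ := by group
      have hconj : a * u * a⁻¹ = g * q' := by
        have h3 : a⁻¹ * (v ^ m) * a⁻¹ = a⁻¹ * a⁻¹ * v ^ m := by
          rw [mul_assoc, show v ^ m * a⁻¹ = a⁻¹ * v ^ m from ((Commute.refl v).pow_pow m (2 * m)).inv_right.eq,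
            ← mul_assoc]
        have h4 : a⁻¹ * a⁻¹ * v ^ m = 1 := by
          rw [ha, ← mul_inv_rev, ← pow_add, inv_mul_eq_one]
          rw [← pow_mod_orderOf v (2 * m + 2 * m), hv, ← pow_mod_orderOf v m, hv]
          congr 1
          omega
        calc a * u * a⁻¹ = (a * g) * q * (v ^ m * a⁻¹) := by rw [hu']; group
          _ = g * (a⁻¹ * q * a) * (a⁻¹ * v ^ m * a⁻¹) := by rw [hga]; group
          _ = g * q' := by rw [h3, h4, mul_one]
      have hsq : g * q' * (g * q') = 1 := by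
        rw [← hconj, show a * u * a⁻¹ * (a * u * a⁻¹) = a * (u * u) * a⁻¹ by group, hu2]; group
      have hexp : g * q' * (g * q') = (g * q' * g⁻¹) * e * q' := by
        conv_lhs => rw [show g * q' * (g * q') = (g * q' * g⁻¹) * (g * g) * q' by group, h]
      rw [hexp] at hsq
      have hconj' : ∀ {x y : G}, g * x * g⁻¹ = y → ∀ d ∈ D, g * (x * d) * g⁻¹ = y * d := fun {x y} hxy d hd => by
        rw [show g * (x * d) * g⁻¹ = g * x * (d * g⁻¹) by group, (hDc d hd g⁻¹ (inv_mem hgC)).eq, ← hxy]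
        group
      have hsimp : ∀ {x y : G}, x ∈ C → ∀ d ∈ D, y * e * d * e * (x * d) = y * x := fun {x y} hx d hd => by
        rw [show y * e * d * e * (x * d) = y * (e * d * (e * (x * d))) by group,
          show e * d * (e * (x * d)) = e * (d * e) * x * d by group, (hDc d hd e T.tmem).eq,
          show e * (e * d) * x * d = (e * e) * (d * x) * d by group, T.tt, one_mul, (hDc d hd x hx).eq,
          mul_assoc x, hee d hd, mul_one]
      rcases hcover q' hq'Q with h' | h' | h' | h'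
      · rw [show g * q' * g⁻¹ = q' by rw [← (hDc q' h' g hgC).eq, mul_inv_cancel_right],
          (hDc q' h' e T.tmem).eq, mul_assoc, hee q' h', mul_one] at hsq
        exact T.t_ne hsq
      · obtain ⟨d, hd, hqd⟩ : ∃ d ∈ D, q' = i * d := ⟨_, h', by group⟩
        rw [hqd, hconj' hgi d hd, hsimp hiC d hd, hii] at hsq
        exact T.t_ne hsq
      · obtain ⟨d, hd, hqd⟩ : ∃ d ∈ D, q' = j * d := ⟨_, h', by group⟩
        rw [hqd, hconj' hgj d hd, hsimp hjC d hd, hk, mul_assoc, hjsq] at hsq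
        exact hiD (by rw [eq_inv_of_mul_eq_one_left hsq]; exact inv_mem (mem_zpowers e))
      · obtain ⟨d, hd, hqd⟩ : ∃ d ∈ D, q' = k * d := ⟨_, h', by group⟩
        rw [hqd, hconj' hgk d hd, hsimp hkC d hd, hk, ← mul_assoc, hji, mul_assoc, (hcomm_t j hjC).eq,
          mul_assoc i j, ← mul_assoc j j, hjsq, T.tt, mul_one] at hsq
        exact hiD (hsq ▸ one_mem D)
  -- the relations
  set i' : C := ⟨i, hiC⟩
  set j' : C := ⟨j, hjC⟩
  set v' : C := ⟨v, hvC⟩
  set g' : C := ⟨g, hgC⟩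
  have hi3 : i ^ 3 = i * e := by rw [pow_three, hii]
  have hrel : InvChar.GL23.Rel i' j' v' g' := by
    refine ⟨Subtype.ext ?_, Subtype.ext ?_, Subtype.ext ?_, Subtype.ext ?_, Subtype.ext ?_,
      Subtype.ext ?_, Subtype.ext ?_, Subtype.ext ?_, Subtype.ext ?_⟩
    · show i ^ 4 = 1
      rw [show (4 : ℕ) = 2 * 2 from rfl, pow_mul, pow_two i, hii, pow_two, T.tt]
    · show j * j = i * i
      rw [hjsq, hii]
    · show j * i = i ^ 3 * j
      rw [hi3, hji, mul_assoc i e j, (hcomm_t j hjC).eq, mul_assoc]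
    · exact hv3
    · exact hj.symm
    · exact hk
    · exact hg2
    · show g * i * g⁻¹ = i⁻¹
      rw [hgi]
      refine (inv_eq_of_mul_eq_one_right ?_).symm
      rw [← mul_assoc, hii, T.tt]
    · exact hgv
  refine InvChar.GL23.nonempty_equiv T.card hrel ?_
  set L := closure ({i', j', v', g'} : Set C)
  set X := L.map C.subtype with hX
  have hXi : i ∈ X := ⟨i', subset_closure (by simp), rfl⟩
  have hXj : j ∈ X := ⟨j', subset_closure (by simp), rfl⟩
  have hXv : v ∈ X := ⟨v', subset_closure (by simp), rfl⟩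
  have hXg : g ∈ X := ⟨g', subset_closure (by simp), rfl⟩
  have hXe : ∀ d ∈ D, d ∈ X := fun d hd => by
    rcases (hDmem d).1 hd with rfl | rfl
    · exact one_mem X
    · exact hii ▸ X.mul_mem hXi hXi
  have hWX : W ≤ X := by
    refine sup_le (fun q hq => ?_) (zpowers_le.2 hXv)
    rcases hcover q hq with h | h | h | h
    · exact hXe q h
    · simpa using X.mul_mem hXi (hXe _ h)
    · simpa using X.mul_mem hXj (hXe _ h)
    · simpa using X.mul_mem (show k ∈ X by rw [hk]; exact X.mul_mem hXi hXj) (hXe _ h)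
  refine eq_top_of_card_eq _ ?_
  have hXC : X ≤ C := map_subtype_le _
  have h24 : 24 ∣ Nat.card X := hW24 ▸ card_dvd_of_le hWX
  have h48 : Nat.card X ∣ 48 := T.card ▸ card_dvd_of_le hXC
  have hne : Nat.card X ≠ 24 := fun h => hgW (eq_of_le_of_card_ge hWX (by rw [h, hW24]) ▸ hXg)
  rw [T.card, show Nat.card L = Nat.card X from (card_map_of_injective C.subtype_injective).symm]
  have key : ∀ x ∈ (48 : ℕ).divisors, 24 ∣ x → x ≠ 24 → x = 48 := by decide +kernel
  exact key _ (Nat.mem_divisors.2 ⟨h48, by norm_num⟩) h24 hne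

end Cfsg.Agent.SmallSimple.Order5616
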