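import Cfsg.Agent.Lib.SmallSimple.Order5616.Values
import Cfsg.Agent.Lib.SmallSimple.Order5616.Cosets
import Cfsg.Agent.InvChar.GL23

/-!
# The centralizer of an involution in a simple group of order 5616 is `GL(2, 3)`
-/

set_option autoImplicit false
set_option linter.style.haveILetI false
set_option linter.unusedSectionVars false
set_option maxRecDepth 100000

namespace Cfsg.Agent.SmallSimple.Order5616

open Subgroup

universe u

variable {G : Type u} [Group G] [Fintype G]

/-- The facts about the involution `t`. -/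
structure Setup (t : G) : Prop where
  ord : orderOf t = 2
  card : Nat.card (centralizer ({t} : Set G)) = 48
  conj : ∀ u v : G, orderOf u = 2 → orderOf v = 2 → IsConj u v
  three : ∀ v : G, orderOf v = 3 → (16 ∣ Nat.card (centralizer ({v} : Set G)) ∨
    8 ∣ Nat.card (centralizer ({v} : Set G)) ∧ IsConj v v⁻¹) → False
  elem : ∀ E : Subgroup G, Nat.card E = 8 → (∀ x ∈ E, x * x = 1) → False
  isolated : ¬ ∀ g : G, Commute t (g * t * g⁻¹) → g * t * g⁻¹ = t
  card_cent : ∀ u : G, orderOf u = 2 → Nat.card (centralizer ({u} : Set G)) = 48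

theorem exists_setup [IsSimpleGroup G] (h : Nat.card G = 5616) {t : G} (ht : orderOf t = 2) :
    Setup t := by
  have hG : ¬ IsMulCommutative G := Basic.not_comm_of_not_prime (by rw [h]; norm_num)
  obtain ⟨B⟩ := exists_block h
  exact ⟨ht, (B.involution h ht).2.2, fun u v hu hv => B.one_class h hu hv,
    fun v hv hc => B.false_of_three h hv hc, fun E h8 h2 => B.false_of_elementary h E h8 h2,
    fun hi => Orders3640.false_of_isolated hG ht hi, fun u hu => (B.involution h hu).2.2⟩

variable {t : G}

theorem Setup.mem_iff (_ : Setup t) {x : G} : x ∈ centralizer ({t} : Set G) ↔ Commute x t :=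
  mem_centralizer_singleton_iff

theorem Setup.tmem (T : Setup t) : t ∈ centralizer ({t} : Set G) := T.mem_iff.2 (Commute.refl t)

theorem Setup.tt (T : Setup t) : t * t = 1 := by
  rw [← pow_two, ← T.ord, pow_orderOf_eq_one]

theorem Setup.t_ne (T : Setup t) : t ≠ 1 := fun e => by
  have := T.ord; rw [e, orderOf_one] at this; norm_num at this

theorem Setup.pow_ne (T : Setup t) {v : G} (hv : orderOf v = 3) : v ≠ 1 := fun e => by
  rw [e, orderOf_one] at hv; norm_num at hv

/-- A subgroup of order three is not normal in the centralizer. -/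
theorem Setup.not_normal_three (T : Setup t) {v : G} (hv : orderOf v = 3)
    (hvC : v ∈ centralizer ({t} : Set G))
    (hn : ∀ c ∈ centralizer ({t} : Set G), c * v * c⁻¹ ∈ zpowers v) : False := by
  classical
  set C := centralizer ({t} : Set G) with hC
  have hcases : ∀ c ∈ C, c * v * c⁻¹ = v ∨ c * v * c⁻¹ = v⁻¹ := by
    intro c hc
    obtain ⟨m, hm3, hm⟩ := Finset.mem_image.1 (mem_zpowers_iff_mem_range_orderOf.1 (hn c hc))
    rw [hv, Finset.mem_range] at hm3
    have hne : c * v * c⁻¹ ≠ 1 := fun e => T.pow_ne hv (conj_eq_one_iff.1 e)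
    interval_cases m
    · exact absurd (by rw [← hm, pow_zero]) hne
    · exact Or.inl (by rw [← hm, pow_one])
    · refine Or.inr ?_
      rw [← hm]
      refine eq_inv_of_mul_eq_one_left ?_
      rw [← pow_succ, show (2 : ℕ) + 1 = orderOf v by rw [hv], pow_orderOf_eq_one]
  by_cases hall : ∀ c ∈ C, c * v * c⁻¹ = v
  · refine T.three v hv (Or.inl ?_)
    have hle : C ≤ centralizer ({v} : Set G) := fun c hc =>
      mem_centralizer_singleton_iff.2 (mul_inv_eq_iff_eq_mul.1 (hall c hc))
    exact (show 16 ∣ Nat.card C by rw [T.card]; norm_num).trans (card_dvd_of_le hle)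
  push Not at hall
  obtain ⟨c, hcC, hcv⟩ := hall
  have hcv' := (hcases c hcC).resolve_left hcv
  set D := C ⊓ centralizer ({v} : Set G) with hD
  have hφ : ∀ x : C, (x : G) * v * (x : G)⁻¹ ≠ v → c⁻¹ * (x : G) ∈ D := fun x hx => by
    refine ⟨C.mul_mem (inv_mem hcC) x.2, mem_centralizer_singleton_iff.2 ?_⟩
    have h1 := ((hcases _ x.2).resolve_left hx).trans hcv'.symm
    calc c⁻¹ * (x : G) * v = c⁻¹ * ((x : G) * v * (x : G)⁻¹) * x := by group
      _ = c⁻¹ * (c * v * c⁻¹) * x := by rw [h1]
      _ = v * (c⁻¹ * x) := by group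
  let φ : C → Bool × D := fun x =>
    if hx : (x : G) * v * (x : G)⁻¹ = v then
      (true, ⟨x, x.2, mem_centralizer_singleton_iff.2 (mul_inv_eq_iff_eq_mul.1 hx)⟩)
    else (false, ⟨c⁻¹ * x, hφ x hx⟩)
  have hinj : Function.Injective φ := by
    intro x y hxy
    simp only [φ] at hxy
    split_ifs at hxy with hx hy hy
    · exact Subtype.ext (congrArg (fun p : Bool × D => (p.2 : G)) hxy)
    · exact absurd (congrArg Prod.fst hxy) (by simp)
    · exact absurd (congrArg Prod.fst hxy) (by simp)
    · exact Subtype.ext (mul_left_cancel (congrArg (fun p : Bool × D => (p.2 : G)) hxy))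
  have hle := Nat.card_le_card_of_injective φ hinj
  rw [Nat.card_prod, T.card, Nat.card_eq_fintype_card (α := Bool), Fintype.card_bool] at hle
  have hd : Nat.card D ∣ 48 := T.card ▸ card_dvd_of_le inf_le_left
  have key : ∀ d ∈ (48 : ℕ).divisors, 48 ≤ 2 * d → 8 ∣ d := by decide +kernel
  refine T.three v hv (Or.inr ⟨?_, isConj_iff.2 ⟨c, hcv'⟩⟩)
  exact (key _ (Nat.mem_divisors.2 ⟨hd, by norm_num⟩) hle).trans (card_dvd_of_le inf_le_right)

/-- A Sylow `2`-subgroup of the centralizer. -/
theorem Setup.exists_sylow (T : Setup t) : ∃ S₀ : Sylow 2 (centralizer ({t} : Set G)),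
    Nat.card (S₀ : Subgroup (centralizer ({t} : Set G))) = 16 := by
  haveI : Fact (Nat.Prime 2) := ⟨Nat.prime_two⟩
  obtain ⟨S₀⟩ : Nonempty (Sylow 2 (centralizer ({t} : Set G))) := inferInstance
  exact ⟨S₀, by rw [Basic.card_sylow_eq_pow (a := 4) (m := 3) (by rw [T.card]; norm_num) (by norm_num) S₀]; norm_num⟩

theorem Setup.exists_three (T : Setup t) : ∃ v ∈ centralizer ({t} : Set G), orderOf v = 3 := by
  haveI : Fact (Nat.Prime 3) := ⟨Nat.prime_three⟩
  obtain ⟨⟨v, hv⟩, hvo⟩ := exists_prime_orderOf_dvd_card' (G := centralizer ({t} : Set G)) 3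
    (by rw [T.card]; norm_num)
  exact ⟨v, hv, by rwa [Subgroup.orderOf_mk] at hvo⟩

theorem pow_card_of_mem {X : Subgroup G} {x : G} (hx : x ∈ X) {n : ℕ} (hn : Nat.card X ∣ n) :
    x ^ n = 1 := by
  have h := orderOf_dvd_natCard (⟨x, hx⟩ : X)
  rw [Subgroup.orderOf_mk] at h
  exact orderOf_dvd_iff_pow_eq_one.1 (h.trans hn)

/-- No subgroup of order 16 is normal in the centralizer. -/
theorem Setup.no_normal_sixteen (T : Setup t) (S : Subgroup G) (hS : S ≤ centralizer ({t} : Set G))
    (h16 : Nat.card S = 16) (hn : ∀ c ∈ centralizer ({t} : Set G), ∀ x ∈ S, c * x * c⁻¹ ∈ S) : False := by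
  classical
  haveI : Fact (Nat.Prime 2) := ⟨Nat.prime_two⟩
  set C := centralizer ({t} : Set G) with hC
  -- the elements of two-power order
  have hmem : ∀ y ∈ C, y ^ 16 = 1 → y ∈ S := by
    intro y hy hy16
    haveI : (S.subgroupOf C).Normal := ⟨fun a ha b => mem_subgroupOf.2
      (hn b b.2 a (mem_subgroupOf.1 ha))⟩
    have hidx : Nat.card (C ⧸ S.subgroupOf C) = 3 := by
      have h2 := card_mul_index (S.subgroupOf C)
      rw [Nat.card_congr (subgroupOfEquivOfLe hS).toEquiv, h16, T.card] at h2
      change (S.subgroupOf C).index = 3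
      omega
    have h1 : (QuotientGroup.mk (⟨y, hy⟩ : C) : C ⧸ S.subgroupOf C) ^ 16 = 1 := by
      rw [← QuotientGroup.mk_pow, show (⟨y, hy⟩ : C) ^ 16 = 1 from Subtype.ext hy16, QuotientGroup.mk_one]
    have h3 : (QuotientGroup.mk (⟨y, hy⟩ : C) : C ⧸ S.subgroupOf C) ^ 3 = 1 := by
      rw [← hidx]; exact pow_card_eq_one'
    have := pow_gcd_eq_one.2 ⟨h1, h3⟩
    simp only [show Nat.gcd 16 3 = 1 from rfl, pow_one] at this
    exact mem_subgroupOf.1 ((QuotientGroup.eq_one_iff _).1 this)
  obtain ⟨v, hvC, hv⟩ := T.exists_three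
  have hv3 : v ^ 3 = 1 := hv ▸ pow_orderOf_eq_one v
  have htS : t ∈ S := hmem t T.tmem (by rw [show (16 : ℕ) = 2 * 8 from rfl, pow_mul, pow_two, T.tt, one_pow])
  set D := S ⊓ centralizer ({v} : Set G) with hDdef
  have hDmem : ∀ x, x ∈ D ↔ x ∈ S ∧ Commute v x := fun x => by
    rw [hDdef, mem_inf, mem_centralizer_singleton_iff]
    exact and_congr_right fun _ => ⟨fun h => h.symm, fun h => h.symm⟩
  have hvt : Commute v t := T.mem_iff.1 hvC
  have htD : t ∈ D := (hDmem t).2 ⟨htS, hvt⟩
  have hCS : ∀ {X : Subgroup G}, S ≤ X → v ∈ X → X ≤ C → X = C := by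
    intro X h1 h2 h3
    refine eq_of_le_of_card_ge h3 ?_
    rw [T.card]
    have h16' : 16 ∣ Nat.card X := h16 ▸ card_dvd_of_le h1
    have h3' : 3 ∣ Nat.card X := by
      have := orderOf_dvd_natCard (⟨v, h2⟩ : X)
      rwa [Subgroup.orderOf_mk, hv] at this
    exact Nat.le_of_dvd Nat.card_pos ((show Nat.Coprime 16 3 by norm_num).mul_dvd_of_dvd_of_dvd h16' h3')
  have hDmod := commute_count_mod S hv3 (hn v hvC)
  rw [Nat.card_congr (Equiv.subtypeEquivRight (q := fun x => x ∈ D) fun x => (hDmem x).symm), h16] at hDmod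
  have hD : Nat.card D = 4 := by
    have hd : Nat.card D ∣ 16 := h16 ▸ card_dvd_of_le inf_le_left
    have h2 : 2 ∣ Nat.card D := by
      have := orderOf_dvd_natCard (⟨t, htD⟩ : D)
      rwa [Subgroup.orderOf_mk, T.ord] at this
    have key : ∀ d ∈ (16 : ℕ).divisors, 2 ∣ d → d % 3 = 16 % 3 → d = 4 ∨ d = 16 := by decide +kernel
    rcases key _ (Nat.mem_divisors.2 ⟨hd, by norm_num⟩) h2 hDmod with e | e
    · exact e
    · exfalso
      have hDS : D = S := eq_of_le_of_card_ge inf_le_left (by rw [h16, e])
      refine T.three v hv (Or.inl ?_)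
      rw [← e]
      exact card_dvd_of_le inf_le_right
  -- `D = {1, t, d, d t}`
  haveI : Fintype D := Fintype.ofFinite D
  obtain ⟨d, hdD, hd1, hdt⟩ : ∃ d ∈ D, d ≠ 1 ∧ d ≠ t := by
    by_contra hcon
    push Not at hcon
    have : Nat.card D ≤ Nat.card Bool := Nat.card_le_card_of_injective
      (fun x : D => decide ((x : G) = 1)) fun x y hxy => by
        apply Subtype.ext
        simp only [decide_eq_decide] at hxy
        by_cases hx : (x : G) = 1
        · rw [hx, hxy.1 hx]
        · rw [hcon x x.2 hx, hcon y y.2 fun e => hx (hxy.2 e)]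
    rw [hD, Nat.card_eq_fintype_card, Fintype.card_bool] at this
    omega
  have hdS : d ∈ S := hdD.1
  have hdC : d ∈ C := hS hdS
  have hcomm_t : ∀ x ∈ C, Commute t x := fun x hx => (T.mem_iff.1 hx).symm
  have hfour : ∀ x ∈ D, x = 1 ∨ x = t ∨ x = d ∨ x = d * t := by
    intro x hx
    by_contra hcon
    push Not at hcon
    obtain ⟨hx1, hxt, hxd, hxdt⟩ := hcon
    let rep : Fin 5 → G := ![1, t, d, d * t, x]
    have hmemD : ∀ a, rep a ∈ D := by
      intro a; fin_cases a <;> simp [rep, one_mem, htD, hdD, hx, D.mul_mem hdD htD]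
    have hinj : Function.Injective fun a => (⟨rep a, hmemD a⟩ : D) := by
      intro a b hab
      have hab' : rep a = rep b := congrArg Subtype.val hab
      have e1 : d * t ≠ 1 := fun e => hdt (by
        rw [mul_eq_one_iff_eq_inv.1 e, inv_eq_of_mul_eq_one_right T.tt])
      have e2 : d * t ≠ t := fun e => hd1 (mul_eq_right.1 e)
      have e3 : d * t ≠ d := fun e => T.t_ne (mul_eq_left.1 e)
      fin_cases a <;> fin_cases b <;> simp [rep] at hab' ⊢ <;>
        first
        | exact T.t_ne hab' | exact T.t_ne hab'.symm | exact hd1 hab' | exact hd1 hab'.symm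
        | exact hdt hab' | exact hdt hab'.symm | exact e1 hab' | exact e1 hab'.symm
        | exact e2 hab' | exact e2 hab'.symm | exact e3 hab' | exact e3 hab'.symm
        | exact hx1 hab' | exact hx1 hab'.symm | exact hxt hab' | exact hxt hab'.symm
        | exact hxd hab' | exact hxd hab'.symm | exact hxdt hab' | exact hxdt hab'.symm
    have := Nat.card_le_card_of_injective _ hinj
    rw [hD, Nat.card_eq_fintype_card, Fintype.card_fin] at this
    omega
  -- `D` is normal in `S`
  have hSp : IsPGroup 2 S := IsPGroup.of_card (n := 4) (by rw [h16]; norm_num)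
  obtain ⟨K₀, hK₀, hDK⟩ := Sylow.exists_subgroup_card_pow_succ (G := S) (p := 2) (n := 2)
    (by rw [h16]; norm_num) (H := D.subgroupOf S)
    (by rw [Nat.card_congr (subgroupOfEquivOfLe (inf_le_left : D ≤ S)).toEquiv, hD]; norm_num)
  set Y := S ⊓ normalizer (D : Set G) with hY
  have hY16 : Nat.card Y = 16 := by
    have hYv : ∀ y ∈ Y, v * y * v⁻¹ ∈ Y := fun y hy => by
      refine ⟨hn v hvC y hy.1, ?_⟩
      have hvD : v ∈ normalizer (D : Set G) := mem_normalizer_iff.2 fun x => by
        constructor
        · intro hx; rw [((hDmem x).1 hx).2.eq, mul_inv_cancel_right]; exact hx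
        · intro hx
          have h1 := ((hDmem _).1 hx).2
          have h2 : v * x * v⁻¹ = x := by
            have := h1.eq
            calc v * x * v⁻¹ = v⁻¹ * (v * (v * x * v⁻¹)) := by group
              _ = v⁻¹ * ((v * x * v⁻¹) * v) := by rw [this]
              _ = x := by group
          rwa [h2] at hx
      exact (normalizer (D : Set G)).mul_mem ((normalizer (D : Set G)).mul_mem hvD hy.2)
        ((normalizer (D : Set G)).inv_mem hvD)
    have hmod := commute_count_mod Y hv3 hYv
    have hfix : Nat.card {y : G // y ∈ Y ∧ Commute v y} = 4 := by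
      rw [← hD]
      refine Nat.card_congr (Equiv.subtypeEquivRight fun y => ⟨fun h => (hDmem y).2 ⟨h.1.1, h.2⟩,
        fun h => ⟨⟨h.1, le_normalizer h⟩, ((hDmem y).1 h).2⟩⟩)
    have hK8 : 8 ≤ Nat.card Y := by
      have hsub : K₀.map S.subtype ≤ Y := by
        haveI : ((D.subgroupOf S).subgroupOf K₀).Normal := by
          refine Subgroup.normal_of_index_eq_two ?_
          have h2 := card_mul_index ((D.subgroupOf S).subgroupOf K₀)
          rw [Nat.card_congr (subgroupOfEquivOfLe hDK).toEquiv,
            Nat.card_congr (subgroupOfEquivOfLe (inf_le_left : D ≤ S)).toEquiv, hD, hK₀] at h2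
          omega
        rintro _ ⟨y, hy, rfl⟩
        refine ⟨y.2, mem_normalizer_iff.2 fun x => ?_⟩
        have hnorm : ∀ z ∈ K₀, ∀ x ∈ D, (z : G) * x * (z : G)⁻¹ ∈ D := fun z hz x hx => by
          have hxS : (⟨x, (inf_le_left : D ≤ S) hx⟩ : S) ∈ K₀ := hDK (mem_subgroupOf.2 hx)
          exact mem_subgroupOf.1 (mem_subgroupOf.1 (Normal.conj_mem
            (inferInstance : ((D.subgroupOf S).subgroupOf K₀).Normal) ⟨_, hxS⟩
            (mem_subgroupOf.2 (mem_subgroupOf.2 hx)) ⟨z, hz⟩))
        refine ⟨hnorm y hy x, fun hx => ?_⟩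
        have := hnorm y⁻¹ (inv_mem hy) _ hx
        simpa [mul_assoc] using this
      have := Nat.le_of_dvd Nat.card_pos (card_dvd_of_le hsub)
      rwa [card_map_of_injective S.subtype_injective, hK₀] at this
    have key : ∀ d ∈ (16 : ℕ).divisors, 8 ≤ d → 4 % 3 = d % 3 → d = 16 := by decide +kernel
    rw [hfix] at hmod
    exact key _ (Nat.mem_divisors.2 ⟨h16 ▸ card_dvd_of_le inf_le_left, by norm_num⟩) hK8 hmod
  have hYS : Y = S := eq_of_le_of_card_ge inf_le_left (by rw [h16, hY16])
  have hnormD : ∀ x ∈ S, x * d * x⁻¹ ∈ D := fun x hx =>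
    (mem_normalizer_iff.1 ((hYS.symm ▸ hx : x ∈ Y)).2 d).1 hdD
  have hd' : ∀ x ∈ S, x * d * x⁻¹ = d ∨ x * d * x⁻¹ = d * t := by
    intro x hx
    rcases hfour _ (hnormD x hx) with e | e | e | e
    · exact absurd (conj_eq_one_iff.1 e) hd1
    · refine absurd ?_ hdt
      calc d = x⁻¹ * (x * d * x⁻¹) * x := by group
        _ = t := by rw [e, mul_assoc, (hcomm_t x (hS hx)).eq, inv_mul_cancel_left]
    · exact Or.inl e
    · exact Or.inr e
  -- `D` is central in `S`
  set Z := S ⊓ centralizer ({d} : Set G) with hZ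
  have hdd : d * d = 1 ∨ d * d = t := by
    rcases hfour _ (D.mul_mem hdD hdD) with e | e | e | e
    · exact Or.inl e
    · exact Or.inr e
    · exact absurd (mul_eq_left.1 e) hd1
    · exact absurd (mul_left_cancel e) hdt
  have hZd : d ∈ Z := ⟨hdS, mem_centralizer_singleton_iff.2 rfl⟩
  have hdv : Commute v d := ((hDmem d).1 hdD).2
  have hZ16 : Nat.card Z = 16 := by
    have hZv : ∀ y ∈ Z, v * y * v⁻¹ ∈ Z := fun y hy => by
      refine ⟨hn v hvC y hy.1, mem_centralizer_singleton_iff.2 ?_⟩
      have h1 : Commute y d := mem_centralizer_singleton_iff.1 hy.2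
      exact ((hdv.mul_left h1).mul_left hdv.inv_left).eq
    have hmod := commute_count_mod Z hv3 hZv
    have hfix : Nat.card {y : G // y ∈ Z ∧ Commute v y} = 4 := by
      rw [← hD]
      refine Nat.card_congr (Equiv.subtypeEquivRight fun y => ⟨fun h => (hDmem y).2 ⟨h.1.1, h.2⟩,
        fun h => ⟨⟨h.1, mem_centralizer_singleton_iff.2 ?_⟩, ((hDmem y).1 h).2⟩⟩)
      rcases hfour y h with rfl | rfl | rfl | rfl
      · simp
      · exact (hcomm_t d hdC).eq
      · rfl
      · exact ((Commute.refl d).mul_left (hcomm_t d hdC)).eq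
    have h8 : 8 ≤ Nat.card Z := by
      by_cases hall : ∀ x ∈ S, x * d * x⁻¹ = d
      · have : S ≤ Z := fun x hx => ⟨hx, mem_centralizer_singleton_iff.2 (mul_inv_eq_iff_eq_mul.1 (hall x hx))⟩
        have := Nat.le_of_dvd Nat.card_pos (card_dvd_of_le this)
        omega
      push Not at hall
      obtain ⟨c, hcS, hcd⟩ := hall
      have hcd' := (hd' c hcS).resolve_left hcd
      have hφ : ∀ x : S, (x : G) * d * (x : G)⁻¹ ≠ d → c⁻¹ * (x : G) ∈ Z := fun x hx => by
        refine ⟨S.mul_mem (inv_mem hcS) x.2, mem_centralizer_singleton_iff.2 ?_⟩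
        have h1 := ((hd' _ x.2).resolve_left hx).trans hcd'.symm
        calc c⁻¹ * (x : G) * d = c⁻¹ * ((x : G) * d * (x : G)⁻¹) * x := by group
          _ = c⁻¹ * (c * d * c⁻¹) * x := by rw [h1]
          _ = d * (c⁻¹ * x) := by group
      let φ : S → Bool × Z := fun x =>
        if hx : (x : G) * d * (x : G)⁻¹ = d then
          (true, ⟨x, x.2, mem_centralizer_singleton_iff.2 (mul_inv_eq_iff_eq_mul.1 hx)⟩)
        else (false, ⟨c⁻¹ * x, hφ x hx⟩)
      have hinj : Function.Injective φ := by
        intro x y hxy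
        simp only [φ] at hxy
        split_ifs at hxy with hx hy hy
        · exact Subtype.ext (congrArg (fun p : Bool × Z => (p.2 : G)) hxy)
        · exact absurd (congrArg Prod.fst hxy) (by simp)
        · exact absurd (congrArg Prod.fst hxy) (by simp)
        · exact Subtype.ext (mul_left_cancel (congrArg (fun p : Bool × Z => (p.2 : G)) hxy))
      have hle := Nat.card_le_card_of_injective φ hinj
      rw [Nat.card_prod, h16, Nat.card_eq_fintype_card (α := Bool), Fintype.card_bool] at hle
      omega
    have key : ∀ d ∈ (16 : ℕ).divisors, 8 ≤ d → 4 % 3 = d % 3 → d = 16 := by decide +kernel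
    rw [hfix] at hmod
    exact key _ (Nat.mem_divisors.2 ⟨h16 ▸ card_dvd_of_le inf_le_left, by norm_num⟩) h8 hmod
  have hdcent : ∀ x ∈ S, Commute d x := fun x hx => by
    have hZS : Z = S := eq_of_le_of_card_ge inf_le_left (by rw [h16, hZ16])
    exact (mem_centralizer_singleton_iff.1 ((hZS.symm ▸ hx : x ∈ Z)).2).symm
  have hcentral : ∀ e ∈ D, ∀ x ∈ S, Commute e x := fun e he x hx => by
    rcases hfour e he with rfl | rfl | rfl | rfl
    · exact Commute.one_left x
    · exact hcomm_t x (hS hx)
    · exact hdcent x hx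
    · exact (hdcent x hx).mul_left (hcomm_t x (hS hx))
  have hCD : ∀ e ∈ D, C ≤ centralizer ({e} : Set G) := fun e he => by
    have := hCS (X := C ⊓ centralizer ({e} : Set G))
      (fun x hx => ⟨hS hx, mem_centralizer_singleton_iff.2 (hcentral e he x hx).eq.symm⟩)
      ⟨hvC, mem_centralizer_singleton_iff.2 ((hDmem e).1 he).2.eq⟩ inf_le_left
    rw [← this]; exact inf_le_right
  have T3 : Three S D v :=
    { le := inf_le_left
      card := by rw [h16, hD]
      pow := fun x hx => pow_card_of_mem hx (by rw [h16])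
      central := hcentral
      fixed := fun e he => ((hDmem e).1 he).2
      v3 := hv3
      stable := hn v hvC
      only := fun x hx hc => (hDmem x).2 ⟨hx, hc⟩ }
  obtain ⟨i, hiS, hiD⟩ : ∃ i ∈ S, i ∉ D := by
    by_contra hcon
    push Not at hcon
    have := Nat.le_of_dvd Nat.card_pos (card_dvd_of_le (show S ≤ D from hcon))
    omega
  have hiiD := T3.sq_mem hiS hiD
  set j := v * i * v⁻¹ with hj
  set k := v * j * v⁻¹ with hk
  have hjj : j * j = i * i := by
    rw [hj, show v * i * v⁻¹ * (v * i * v⁻¹) = v * (i * i) * v⁻¹ by group,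
      ((hDmem _).1 hiiD).2.eq, mul_inv_cancel_right]
  have hkk : k * k = i * i := by
    rw [hk, show v * j * v⁻¹ * (v * j * v⁻¹) = v * (j * j) * v⁻¹ by group, hjj,
      ((hDmem _).1 hiiD).2.eq, mul_inv_cancel_right]
  -- squares in `S`
  have hsq : ∀ (W : Set G), (∀ e ∈ D, e * e ∈ W) → (∀ e ∈ D, i * i * (e * e) ∈ W) →
      ∀ x ∈ S, x * x ∈ W := by
    intro W h1 h2 x hx
    have hrep : ∀ {a : G}, a ∈ S → a * a = i * i → a⁻¹ * x ∈ D → x * x ∈ W := by
      intro a ha haa he
      set e := a⁻¹ * x with hedef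
      have hxe : x = a * e := by rw [hedef, mul_inv_cancel_left]
      rw [hxe, show a * e * (a * e) = a * (e * a) * e by group, (hcentral e he a ha).eq,
        show a * (a * e) * e = a * a * (e * e) by group, haa]
      exact h2 e he
    obtain ⟨hjS, hjD⟩ := T3.rotate hiS hiD
    obtain ⟨hkS, -⟩ := T3.rotate hjS hjD
    rcases T3.cover hiS hiD hj hk hx with h | h | h | h
    · exact h1 x h
    · exact hrep hiS rfl h
    · exact hrep hjS hjj h
    · exact hrep hkS hkk h
  have hC48 : ∀ u : G, orderOf u = 2 → u ∈ D → centralizer ({u} : Set G) = C := fun u hu huD =>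
    (eq_of_le_of_card_ge (hCD u huD) (by rw [T.card_cent u hu, T.card])).symm
  rcases hdd with hdd | hdd
  · -- `D` is a four-group
    have hee : ∀ e ∈ D, e * e = 1 := fun e he => by
      rcases hfour e he with rfl | rfl | rfl | rfl
      · simp
      · exact T.tt
      · exact hdd
      · rw [show d * t * (d * t) = d * (t * d) * t by group, (hcomm_t d hdC).eq,
          show d * (d * t) * t = d * d * (t * t) by group, hdd, T.tt, one_mul]
    by_cases hii : i * i = 1
    · refine T.elem (D ⊔ zpowers i) ?_ ?_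
      · have hsup : ∀ x ∈ D ⊔ zpowers i, x ∈ D ∨ i⁻¹ * x ∈ D := by
          intro x hx
          have hn' : zpowers i ≤ normalizer (D : Set G) := zpowers_le.2
            ((hYS.symm ▸ hiS : i ∈ Y)).2
          rw [← SetLike.mem_coe, coe_mul_of_right_le_normalizer_left D (zpowers i) hn'] at hx
          obtain ⟨e, he, z, hz, rfl⟩ := hx
          obtain ⟨m, rfl⟩ := mem_zpowers_iff.1 hz
          simp only
          rcases Int.even_or_odd m with ⟨r, hr⟩ | ⟨r, hr⟩
          · left
            rw [hr, zpow_add, ← (Commute.refl i).mul_zpow, hii, one_zpow, mul_one]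
            exact he
          · right
            rw [hr, zpow_add, zpow_one, two_mul, zpow_add, ← (Commute.refl i).mul_zpow, hii, one_zpow,
              one_mul, (hcentral e he i hiS).eq, inv_mul_cancel_left]
            exact he
        refine le_antisymm ?_ ?_
        · let φ : ↥(D ⊔ zpowers i) → Bool × D := fun x =>
            if hx : (x : G) ∈ D then (true, ⟨x, hx⟩) else (false, ⟨i⁻¹ * x, (hsup x x.2).resolve_left hx⟩)
          have hinj : Function.Injective φ := by
            intro x y hxy
            simp only [φ] at hxy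
            split_ifs at hxy with hx hy hy
            · exact Subtype.ext (congrArg (fun p : Bool × D => (p.2 : G)) hxy)
            · exact absurd (congrArg Prod.fst hxy) (by simp)
            · exact absurd (congrArg Prod.fst hxy) (by simp)
            · exact Subtype.ext (mul_left_cancel (congrArg (fun p : Bool × D => (p.2 : G)) hxy))
          have := Nat.card_le_card_of_injective φ hinj
          rw [Nat.card_prod, hD, Nat.card_eq_fintype_card (α := Bool), Fintype.card_bool] at this
          omega
        · have hlt : D < D ⊔ zpowers i := left_lt_sup.2 fun h => hiD (h (mem_zpowers i))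
          have h4 := card_dvd_of_le hlt.le
          have hne : Nat.card ↥(D ⊔ zpowers i) ≠ 4 := fun e =>
            hlt.ne (eq_of_le_of_card_ge hlt.le (by rw [hD, e]))
          rw [hD] at h4
          obtain ⟨r, hr⟩ := h4
          have : 0 < Nat.card ↥(D ⊔ zpowers i) := Nat.card_pos
          omega
      · intro x hx
        have hxS : x ∈ S := sup_le (inf_le_left : D ≤ S) (zpowers_le.2 hiS) hx
        have h := hsq {z | z = 1} (fun e he => hee e he) (fun e he => by
          show i * i * (e * e) = 1
          rw [hii, hee e he, one_mul]) x hxS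
        exact h
    · have hz2 : orderOf (i * i) = 2 := orderOf_eq_prime (by rw [pow_two]; exact hee _ hiiD) hii
      obtain ⟨u, huD, hu1, huz⟩ : ∃ u ∈ D, u ≠ 1 ∧ u ≠ i * i := by
        by_cases e : i * i = t
        · exact ⟨d, hdD, hd1, e ▸ hdt⟩
        · exact ⟨t, htD, T.t_ne, Ne.symm e⟩
      have hu2 : orderOf u = 2 := orderOf_eq_prime (by rw [pow_two]; exact hee u huD) hu1
      obtain ⟨g, hg⟩ := isConj_iff.1 (T.conj u (i * i) hu2 hz2)
      have hiC : i ∈ C := hS hiS
      have hgi : g * i * g⁻¹ ∈ C := by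
        rw [← hC48 _ hz2 hiiD, ← hg, mem_centralizer_singleton_iff]
        have h1 : Commute i u := (hcentral u huD i hiS).symm
        calc g * i * g⁻¹ * (g * u * g⁻¹) = g * (i * u) * g⁻¹ := by group
          _ = g * (u * i) * g⁻¹ := by rw [h1.eq]
          _ = g * u * g⁻¹ * (g * i * g⁻¹) := by group
      have hgS : g * i * g⁻¹ ∈ S := hmem _ hgi (by rw [conj_pow, pow_card_of_mem hiS (by rw [h16])]; group)
      have h := hsq {z | z = 1 ∨ z = i * i} (fun e he => Or.inl (hee e he))
        (fun e he => Or.inr (by rw [hee e he, mul_one])) _ hgS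
      rw [show g * i * g⁻¹ * (g * i * g⁻¹) = g * (i * i) * g⁻¹ by group] at h
      rcases h with h | h
      · exact hii (conj_eq_one_iff.1 h)
      · exact huz (mul_left_cancel (mul_right_cancel (hg.trans h.symm)))
  · -- `D` is cyclic
    have hee : ∀ e ∈ D, e * e = 1 ∨ e * e = t := fun e he => by
      rcases hfour e he with rfl | rfl | rfl | rfl
      · simp
      · exact Or.inl T.tt
      · exact Or.inr hdd
      · refine Or.inr ?_
        rw [show d * t * (d * t) = d * (t * d) * t by group, (hcomm_t d hdC).eq,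
          show d * (d * t) * t = d * d * (t * t) by group, hdd, T.tt, mul_one]
    have hiit : i * i = 1 ∨ i * i = t := by
      rcases hfour _ hiiD with e | e | e | e
      · exact Or.inl e
      · exact Or.inr e
      all_goals
        exfalso
        obtain ⟨hjS, hjD⟩ := T3.rotate hiS hiD
        obtain ⟨hkS, -⟩ := T3.rotate hjS hjD
        obtain ⟨h1, h2⟩ := T3.mul_mem_third hiS hiD
        rw [← hj, ← hk] at h1 h2
        set e1 := k⁻¹ * (i * j) with he1
        set c := (i * j)⁻¹ * (j * i) with hc
        have hcD : c ∈ D := by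
          have := D.mul_mem (inv_mem h1) h2
          rwa [he1, show (k⁻¹ * (i * j))⁻¹ * (k⁻¹ * (j * i)) = c by rw [hc]; group] at this
        have hji : j * i = i * j * c := by rw [hc, mul_inv_cancel_left]
        have hcc : c * c = 1 := by
          have hcom : j * (i * i) = i * i * j := (hcentral _ hiiD j hjS).eq.symm
          have h3 : j * (i * i) = i * i * j * (c * c) := by
            calc j * (i * i) = (j * i) * i := by group
              _ = i * j * (c * i) := by rw [hji]; group
              _ = i * (j * i) * c := by rw [(hcentral c hcD i hiS).eq]; group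
              _ = i * i * j * (c * c) := by rw [hji]; group
          exact left_eq_mul.1 (hcom.symm.trans h3)
        have hL : (i * j) * (i * j) = i * i * (j * j) * c := by
          calc (i * j) * (i * j) = i * (j * i) * j := by group
            _ = i * (i * j) * (c * j) := by rw [hji]; group
            _ = i * i * (j * j) * c := by rw [(hcentral c hcD j hjS).eq]; group
        have hR : (i * j) * (i * j) = i * i * (e1 * e1) := by
          have hke : i * j = k * e1 := by rw [he1, mul_inv_cancel_left]
          rw [hke, show k * e1 * (k * e1) = k * (e1 * k) * e1 by group, (hcentral e1 h1 k hkS).eq,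
            show k * (k * e1) * e1 = k * k * (e1 * e1) by group, hkk]
        have hfin : e1 * e1 = i * i * c := by
          have := hR.symm.trans hL
          rw [hjj, mul_assoc (i * i)] at this
          exact mul_left_cancel this
        rcases hfour c hcD with ec | ec | ec | ec
        · rw [e, ec, mul_one] at hfin
          rcases hee e1 h1 with e' | e' <;> rw [e'] at hfin
          all_goals first
            | exact hd1 hfin.symm
            | exact hdt hfin.symm
            | exact hdt (by rw [mul_eq_one_iff_eq_inv.1 hfin.symm, inv_eq_of_mul_eq_one_right T.tt])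
            | exact hd1 (mul_eq_right.1 hfin.symm)
        · rw [e, ec] at hfin
          rcases hee e1 h1 with e' | e' <;> rw [e'] at hfin
          all_goals first
            | exact hd1 (mul_eq_right.1 hfin.symm)
            | exact hdt (by rw [mul_eq_one_iff_eq_inv.1 hfin.symm, inv_eq_of_mul_eq_one_right T.tt])
            | (rw [mul_assoc, T.tt, mul_one] at hfin; exact hd1 hfin.symm)
            | (rw [mul_assoc, T.tt, mul_one] at hfin; exact hdt hfin.symm)
        · rw [ec, hdd] at hcc
          exact T.t_ne hcc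
        · rw [ec, show d * t * (d * t) = d * (t * d) * t by group, (hcomm_t d hdC).eq,
            show d * (d * t) * t = d * d * (t * t) by group, hdd, T.tt, mul_one] at hcc
          exact T.t_ne hcc
    obtain ⟨s, hsS, hsD, hs⟩ : ∃ s ∈ S, s ∉ D ∧ s * s = 1 := by
      rcases hiit with e | e
      · exact ⟨i, hiS, hiD, e⟩
      · refine ⟨i * d, S.mul_mem hiS hdS, fun h => hiD ?_, ?_⟩
        · simpa using D.mul_mem h (inv_mem hdD)
        · rw [show i * d * (i * d) = i * (d * i) * d by group, (hdcent i hiS).eq,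
            show i * (i * d) * d = i * i * (d * d) by group, e, hdd, T.tt]
    have hs2 : orderOf s = 2 := orderOf_eq_prime (by rw [pow_two]; exact hs) fun e => hsD (e ▸ one_mem D)
    obtain ⟨g, hg⟩ := isConj_iff.1 (T.conj t s T.ord hs2)
    have hds : Commute d (g * t * g⁻¹) := hg.symm ▸ hdcent s hsS
    have hgd : g⁻¹ * d * g ∈ C := by
      rw [T.mem_iff]
      show g⁻¹ * d * g * t = t * (g⁻¹ * d * g)
      calc g⁻¹ * d * g * t = g⁻¹ * (d * (g * t * g⁻¹)) * g := by group
        _ = g⁻¹ * ((g * t * g⁻¹) * d) * g := by rw [hds.eq]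
        _ = t * (g⁻¹ * d * g) := by group
    have hgS : g⁻¹ * d * g ∈ S := by
      refine hmem _ hgd ?_
      rw [show g⁻¹ * d * g = g⁻¹ * d * g⁻¹⁻¹ by rw [inv_inv], conj_pow,
        pow_card_of_mem hdS (by rw [h16])]
      group
    have h := hsq {z | z = 1 ∨ z = t} hee (fun e he => by
      show i * i * (e * e) = 1 ∨ i * i * (e * e) = t
      rcases hiit with a | a <;> rcases hee e he with b | b <;> rw [a, b] <;> simp [T.tt]) _ hgS
    rw [show g⁻¹ * d * g * (g⁻¹ * d * g) = g⁻¹ * (d * d) * g by group, hdd] at h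
    rcases h with h | h
    · refine T.t_ne ?_
      calc t = g * (g⁻¹ * t * g) * g⁻¹ := by group
        _ = 1 := by rw [h]; group
    · refine hsD ?_
      rw [← hg]
      have : g * t * g⁻¹ = t := by
        conv_lhs => rw [← h]
        group
      rw [this]
      exact htD

end Cfsg.Agent.SmallSimple.Order5616
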