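import Cfsg.Agent.Lib.SmallSimple.Order5616.Chars
import Cfsg.Agent.Lib.CharTheory.DihedralEight
import Cfsg.Agent.Lib.SmallSimple.Orders6232.D
import Cfsg.Agent.Lib.Characters.Burnside
import Cfsg.Agent.BlockCharsA.DefectZeroVanish

/-!
# Character values at involutions and at elements of order three, order 5616

Every involution has a centralizer of order 48, they are conjugate, no element of order three has a
centralizer of order divisible by 16, or by 8 while being real, and no subgroup is elementary of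
order 8.
-/

set_option autoImplicit false
set_option linter.style.haveILetI false
set_option maxRecDepth 100000

namespace Cfsg.Agent.SmallSimple.Order5616

open Subgroup
open Cfsg.Agent.Characters
open scoped ComplexConjugate

universe u

variable {G : Type u} [Group G] [Fintype G]

theorem class_integral (χ : Cfsg.IrrCharacter G) (g : G) :
    IsIntegral ℤ (((centralizer ({g} : Set G)).index : ℂ) * (χ : G → ℂ) g / (χ : G → ℂ) 1) := by
  obtain ⟨n, ρ, hρ, hc⟩ := χ.2
  have h := class_central_char_isIntegral ρ g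
  rw [← hc, ρ.char_one]
  exact h

theorem factorization_two : (5616 : ℕ).factorization 2 = 4 := by
  rw [show (5616 : ℕ) = 2 ^ 4 * 351 from rfl, Nat.factorization_mul (by norm_num) (by norm_num),
    Finsupp.add_apply, Nat.Prime.factorization_pow Nat.prime_two, Finsupp.single_eq_same,
    Nat.factorization_eq_zero_of_not_dvd (by norm_num)]

theorem factorization_three : (5616 : ℕ).factorization 3 = 3 := by
  rw [show (5616 : ℕ) = 3 ^ 3 * 208 from rfl, Nat.factorization_mul (by norm_num) (by norm_num),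
    Finsupp.add_apply, Nat.Prime.factorization_pow Nat.prime_three, Finsupp.single_eq_same,
    Nat.factorization_eq_zero_of_not_dvd (by norm_num)]

theorem Block.mu_even (B : Block G) (h : Nat.card G = 5616) (i : Fin 4) {g : G} (hg : 2 ∣ orderOf g) :
    (B.μ i : G → ℂ) g = 0 := by
  refine BlockCharsA.DefectZeroVanish.eq_zero_of_singular Nat.prime_two (B.μ i) ?_ hg
  have hd : Cfsg.charDegree (B.μ i : G → ℂ) = 16 := by
    have h1 := PrimeBlock.deg_cast (B.μ i)
    rw [B.deg_μ] at h1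
    exact_mod_cast h1
  rw [hd, h, factorization_two]
  norm_num

theorem Block.b_three (B : Block G) (h : Nat.card G = 5616) {g : G} (hg : 3 ∣ orderOf g) :
    (B.b : G → ℂ) g = 0 := by
  refine BlockCharsA.DefectZeroVanish.eq_zero_of_singular Nat.prime_three B.b ?_ hg
  have hd : Cfsg.charDegree (B.b : G → ℂ) = 27 := by
    have h1 := PrimeBlock.deg_cast B.b
    rw [B.deg_b] at h1
    exact_mod_cast h1
  rw [hd, h, factorization_three]
  norm_num

theorem ab_arith {a b : ℤ} (h1 : b = a - 1) (h2 : 108 - 9 * a ^ 2 + 4 * b ^ 2 = 0) :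
    a = 4 ∧ b = 3 := by
  subst h1
  have hb1 : a ≤ 6 := by nlinarith
  have hb2 : -8 ≤ a := by nlinarith
  interval_cases a <;> omega

theorem Block.ne (B : Block G) :
    B.a ≠ trivIrr G ∧ B.b ≠ trivIrr G ∧ B.a ≠ B.b ∧ (∀ i, B.μ i ≠ trivIrr G) ∧
      (∀ i, B.μ i ≠ B.a) ∧ ∀ i, B.μ i ≠ B.b := by
  have key : ∀ {χ ψ : Cfsg.IrrCharacter G} {x y : ℂ}, (χ : G → ℂ) 1 = x → (ψ : G → ℂ) 1 = y →
      x ≠ y → χ ≠ ψ := fun h1 h2 hne e => hne (h1.symm.trans ((e ▸ rfl : _ = _).trans h2))
  have h1 : (trivIrr G : G → ℂ) 1 = 1 := by simp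
  exact ⟨key B.deg_a h1 (by norm_num), key B.deg_b h1 (by norm_num), key B.deg_a B.deg_b (by norm_num),
    fun i => key (B.deg_μ i) h1 (by norm_num), fun i => key (B.deg_μ i) B.deg_a (by norm_num),
    fun i => key (B.deg_μ i) B.deg_b (by norm_num)⟩

theorem not_thirteen_of_two {t : G} (ht : orderOf t = 2) : ¬ 13 ∣ orderOf t := by
  rw [ht]; norm_num

/-- The values at an involution, and its centralizer. -/
theorem Block.involution (B : Block G) [IsSimpleGroup G] (h : Nat.card G = 5616) {t : G}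
    (ht : orderOf t = 2) :
    (B.a : G → ℂ) t = 4 ∧ (B.b : G → ℂ) t = 3 ∧ Nat.card (centralizer ({t} : Set G)) = 48 := by
  classical
  haveI := Fintype.ofFinite (Cfsg.IrrCharacter G)
  choose val hval using fun χ : Cfsg.IrrCharacter G =>
    CharTheory.DihedralEight.exists_int_value (irr_isCharacter χ) ht
  have hμ0 : (B.μ 0 : G → ℂ) t = 0 := B.mu_even h 0 (ht ▸ dvd_rfl)
  have hb : val B.b = val B.a - 1 := by
    have h1 := B.rel 0 t (not_thirteen_of_two ht)
    rw [hμ0, hval, hval] at h1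
    have : ((val B.b : ℤ) : ℂ) = ((val B.a - 1 : ℤ) : ℂ) := by push_cast; linear_combination h1
    exact_mod_cast this
  -- the class multiplication
  set K : Finset G := Finset.univ.filter (IsConj t) with hK
  have hKmem : ∀ u, u ∈ K ↔ IsConj t u := fun u => by simp [hK]
  have hK2 : ∀ u ∈ K, orderOf u = 2 := fun u hu => by
    rw [Orders6232.conj_orderOf ((hKmem u).1 hu), ht]
  have hs : ∀ χ : Cfsg.IrrCharacter G, ∑ u ∈ K, ∑ v ∈ K, (χ : G → ℂ) (u * v) =
      ((K.card : ℂ) * (χ : G → ℂ) t) ^ 2 / (χ : G → ℂ) 1 := by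
    intro χ
    rw [eq_div_iff (irr_one_ne_zero χ.2), mul_comm]
    refine CharTheory.DihedralEight.sum_mul_involutions χ.2 K t (fun u hu g => ?_) fun u hu => ?_
    · exact (hKmem _).2 (((hKmem u).1 hu).trans (isConj_iff.2 ⟨g, rfl⟩))
    · obtain ⟨g, rfl⟩ := isConj_iff.1 ((hKmem u).1 hu)
      exact irr_isClassFunction χ t g
  have hzero : ∑ u ∈ K, ∑ v ∈ K, (1 - (B.a : G → ℂ) (u * v) + (B.b : G → ℂ) (u * v) -
      (B.μ 0 : G → ℂ) (u * v)) = 0 :=
    Finset.sum_eq_zero fun u hu => Finset.sum_eq_zero fun v hv =>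
      B.rel 0 _ (B.no13 u v (hK2 u hu) (hK2 v hv))
  have hvμ : val (B.μ 0) = 0 := by rw [hval] at hμ0; exact_mod_cast hμ0
  simp only [Finset.sum_sub_distrib, Finset.sum_add_distrib, hs, B.deg_a, B.deg_b, B.deg_μ,
    hval, hvμ, Finset.sum_const, nsmul_eq_mul] at hzero
  push_cast at hzero
  have hK0 : (K.card : ℂ) ≠ 0 := by
    exact_mod_cast (Finset.card_pos.2 ⟨t, (hKmem t).2 (IsConj.refl t)⟩).ne'
  have h108 : ((108 - 9 * val B.a ^ 2 + 4 * val B.b ^ 2 : ℤ) : ℂ) = 0 := by
    refine mul_left_cancel₀ (pow_ne_zero 2 hK0) ?_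
    push_cast
    linear_combination 108 * hzero
  obtain ⟨ha4, hb3⟩ := ab_arith hb (by exact_mod_cast h108)
  refine ⟨by rw [hval, ha4]; norm_num, by rw [hval, hb3]; norm_num, ?_⟩
  set C := centralizer ({t} : Set G) with hC
  -- nine divides the index
  have h9 : 9 ∣ C.index := by
    have h1 := class_integral B.b t
    rw [B.deg_b, hval, hb3] at h1
    have h2 := dvd_of_isIntegral_div (a := C.index * 3) (b := 27) (by norm_num) (by push_cast at h1 ⊢; exact h1)
    omega
  have hidx := C.card_mul_index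
  rw [h] at hidx
  have h26 : 26 ≤ Nat.card C := by
    have h1 := second_orthogonality t t
    rw [if_pos (IsConj.refl t)] at h1
    simp only [hval, map_intCast, ← sq] at h1
    have h2 : ∑ χ : Cfsg.IrrCharacter G, val χ ^ 2 = (Nat.card C : ℤ) := by exact_mod_cast h1
    have hv1 : val (trivIrr G) = 1 := by
      have h3 := hval (trivIrr G)
      simp only [trivIrr_coe] at h3
      exact_mod_cast h3.symm
    have h3 := Finset.sum_le_sum_of_subset_of_nonneg (Finset.subset_univ {trivIrr G, B.a, B.b})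
      (f := fun χ => val χ ^ 2) fun _ _ _ => sq_nonneg _
    obtain ⟨n1, n2, n3, -⟩ := B.ne
    rw [Finset.sum_insert (by simp [n1.symm, n2.symm]), Finset.sum_pair n3, hv1, ha4, hb3, h2] at h3
    exact_mod_cast (by linarith : (26 : ℤ) ≤ (Nat.card C : ℤ))
  have ht1 : t ≠ 1 := fun e => by rw [e, orderOf_one] at ht; norm_num at ht
  have h13 := B.cent13 t ht1 (not_thirteen_of_two ht)
  have key : ∀ c ∈ (5616 : ℕ).divisors, 26 ≤ c → ¬ 13 ∣ c → 9 ∣ 5616 / c → c = 48 := by decide +kernel
  refine key _ (Nat.mem_divisors.2 ⟨h ▸ card_subgroup_dvd_card C, by norm_num⟩) h26 h13 ?_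
  rwa [← hidx, Nat.mul_div_cancel_left _ Nat.card_pos]

/-- The remaining characters. -/
noncomputable def Block.others (B : Block G) : Finset (Cfsg.IrrCharacter G) :=
  haveI := Fintype.ofFinite (Cfsg.IrrCharacter G)
  haveI := Classical.decEq (Cfsg.IrrCharacter G)
  Finset.univ \ ({trivIrr G, B.a, B.b} ∪ Finset.univ.image B.μ)

/-- A sum over all characters. -/
theorem Block.sum_split (B : Block G) [Fintype (Cfsg.IrrCharacter G)] {M : Type} [AddCommMonoid M]
    (F : Cfsg.IrrCharacter G → M) :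
    ∑ χ, F χ = F (trivIrr G) + F B.a + F B.b + ∑ i, F (B.μ i) + ∑ χ ∈ B.others, F χ := by
  classical
  obtain ⟨n1, n2, n3, n4, n5, n6⟩ := B.ne
  have hd : Disjoint ({trivIrr G, B.a, B.b} : Finset (Cfsg.IrrCharacter G)) (Finset.univ.image B.μ) := by
    rw [Finset.disjoint_right]
    intro χ hχ
    obtain ⟨i, -, rfl⟩ := Finset.mem_image.1 hχ
    simp [n4 i, n5 i, n6 i]
  rw [← Finset.sum_add_sum_compl (({trivIrr G, B.a, B.b} : Finset _) ∪ Finset.univ.image B.μ),
    Finset.sum_union hd, Finset.sum_insert (by simp [n1.symm, n2.symm]), Finset.sum_pair n3,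
    Finset.sum_image fun a _ b _ h => B.inj h]
  have : (({trivIrr G, B.a, B.b} : Finset _) ∪ Finset.univ.image B.μ)ᶜ = B.others := by
    ext χ
    simp [Block.others]
  rw [this, add_assoc (F _) (F B.a)]

/-- All involutions are conjugate. -/
theorem Block.one_class (B : Block G) [IsSimpleGroup G] (h : Nat.card G = 5616) {t u : G}
    (ht : orderOf t = 2) (hu : orderOf u = 2) : IsConj t u := by
  classical
  by_contra hne
  haveI := Fintype.ofFinite (Cfsg.IrrCharacter G)
  choose x hx using fun χ : Cfsg.IrrCharacter G =>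
    CharTheory.DihedralEight.exists_int_value (irr_isCharacter χ) ht
  choose y hy using fun χ : Cfsg.IrrCharacter G =>
    CharTheory.DihedralEight.exists_int_value (irr_isCharacter χ) hu
  obtain ⟨hta, htb, htc⟩ := B.involution h ht
  obtain ⟨hua, hub, huc⟩ := B.involution h hu
  have hd : ∀ {g : G} (z : Cfsg.IrrCharacter G → ℤ), (∀ χ : Cfsg.IrrCharacter G, (χ : G → ℂ) g = z χ) →
      orderOf g = 2 → (B.a : G → ℂ) g = 4 → (B.b : G → ℂ) g = 3 →
      z (trivIrr G) = 1 ∧ z B.a = 4 ∧ z B.b = 3 ∧ ∀ i, z (B.μ i) = 0 := by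
    intro g z hz hg ha hb
    refine ⟨?_, ?_, ?_, fun i => ?_⟩
    · have := hz (trivIrr G)
      simp only [trivIrr_coe] at this
      exact_mod_cast this.symm
    · rw [hz] at ha; exact_mod_cast ha
    · rw [hz] at hb; exact_mod_cast hb
    · have := B.mu_even h i (g := g) (hg ▸ dvd_rfl)
      rw [hz] at this
      exact_mod_cast this
  obtain ⟨x1, xa, xb, xm⟩ := hd x hx ht hta htb
  obtain ⟨y1, ya, yb, ym⟩ := hd y hy hu hua hub
  have htt := second_orthogonality t t
  have huu := second_orthogonality u u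
  have htu := second_orthogonality t u
  rw [if_pos (IsConj.refl t), htc] at htt
  rw [if_pos (IsConj.refl u), huc] at huu
  rw [if_neg hne] at htu
  simp only [hx, hy, map_intCast] at htt huu htu
  have e1 : ∑ χ, x χ * x χ = 48 := by exact_mod_cast htt
  have e2 : ∑ χ, y χ * y χ = 48 := by exact_mod_cast huu
  have e3 : ∑ χ, x χ * y χ = 0 := by exact_mod_cast htu
  rw [B.sum_split, Fin.sum_univ_four] at e1 e2 e3
  simp only [x1, xa, xb, xm, y1, ya, yb, ym] at e1 e2 e3
  have h0 : 0 ≤ ∑ χ ∈ B.others, (x χ + y χ) ^ 2 := Finset.sum_nonneg fun _ _ => sq_nonneg _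
  have h1 : ∑ χ ∈ B.others, (x χ + y χ) ^ 2 = ∑ χ ∈ B.others, x χ * x χ + ∑ χ ∈ B.others, y χ * y χ +
      2 * ∑ χ ∈ B.others, x χ * y χ := by
    rw [Finset.mul_sum, ← Finset.sum_add_distrib, ← Finset.sum_add_distrib]
    exact Finset.sum_congr rfl fun _ _ => by ring
  omega

/-- The sum of a character over a subgroup is a multiple of the order. -/
theorem sum_subgroup (χ : Cfsg.IrrCharacter G) (H : Subgroup G) [Fintype H] :
    ∃ k : ℕ, ∑ g : H, (χ : G → ℂ) g = (Nat.card H : ℂ) * k := by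
  obtain ⟨m, hm⟩ := classInner_char_nat (isCharacter_restrict H (irr_isCharacter χ)) (isCharacter_one (G := H))
  refine ⟨m, ?_⟩
  rw [← hm, classInner_def, ← mul_assoc, mul_inv_cancel₀ (by exact_mod_cast Nat.card_pos.ne'), one_mul]
  simp

theorem real_part_bound {k : ℕ} {z : ℂ} (hk : 16 + z + conj z = 3 * (k : ℂ))
    (h16 : (16 : ℤ) ∣ 3 * (k : ℤ) - 16) : 64 ≤ Complex.normSq z := by
  have hre : 16 + 2 * z.re = 3 * (k : ℝ) := by
    have := congrArg Complex.re hk
    simpa [two_mul, add_assoc] using this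
  obtain ⟨j, hj⟩ := h16
  have hj' : 3 * (k : ℝ) - 16 = 16 * (j : ℝ) := by exact_mod_cast hj
  have hz : z.re = 8 * (j : ℝ) := by linarith
  have hj0 : j ≠ 0 := by omega
  have hj1 : (1 : ℝ) ≤ (j : ℝ) ^ 2 := by
    have := sq_pos_of_ne_zero hj0
    exact_mod_cast (by omega : (1 : ℤ) ≤ j ^ 2)
  rw [Complex.normSq_apply]
  nlinarith [sq_nonneg z.im]

/-- Elements of order three with large centralizer. -/
theorem Block.false_of_three (B : Block G) [IsSimpleGroup G] (h : Nat.card G = 5616) {v : G}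
    (hv : orderOf v = 3) (hc : 16 ∣ Nat.card (centralizer ({v} : Set G)) ∨
      8 ∣ Nat.card (centralizer ({v} : Set G)) ∧ IsConj v v⁻¹) : False := by
  classical
  haveI := Fintype.ofFinite (Cfsg.IrrCharacter G)
  have hv13 : ¬ 13 ∣ orderOf v := by rw [hv]; norm_num
  have hv1 : v ≠ 1 := fun e => by rw [e, orderOf_one] at hv; norm_num at hv
  have hμeq : ∀ i, (B.μ i : G → ℂ) v = (B.μ 0 : G → ℂ) v := fun i => by
    linear_combination B.rel 0 v hv13 - B.rel i v hv13
  set z := (B.μ 0 : G → ℂ) v with hz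
  obtain ⟨k, hk⟩ : ∃ k : ℕ, 16 + z + conj z = 3 * (k : ℂ) := by
    obtain ⟨k, hk⟩ := sum_subgroup (B.μ 0) (zpowers v)
    refine ⟨k, ?_⟩
    rw [Nat.card_zpowers, hv] at hk
    rw [← (finEquivZPowers (isOfFinOrder_of_finite v)).sum_comp] at hk
    simp only [finEquivZPowers_apply] at hk
    rw [← (finCongr hv.symm).sum_comp, Fin.sum_univ_three] at hk
    have hinv : v ^ 2 = v⁻¹ := by
      refine eq_inv_of_mul_eq_one_left ?_
      rw [← pow_succ]
      rw [show (2 : ℕ) + 1 = orderOf v by rw [hv], pow_orderOf_eq_one]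
    simp [hinv, char_inv (irr_isCharacter (B.μ 0)), B.deg_μ] at hk
    rw [← hk]
  set h' := (centralizer ({v} : Set G)).index with hh'
  have hint := class_integral (B.μ 0) v
  rw [B.deg_μ, ← hz, ← hh'] at hint
  have hint' := hint.add (isIntegral_conj hint)
  simp only [map_div₀, map_mul, map_natCast, map_ofNat] at hint'
  have hidx := (centralizer ({v} : Set G)).card_mul_index
  rw [h, ← hh'] at hidx
  have h16 : (16 : ℤ) ∣ 3 * (k : ℤ) - 16 := by
    rcases hc with h16 | ⟨h8, hreal⟩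
    · obtain ⟨w, hw⟩ := exists_int_of_isIntegral_ratCast
        (q := (h' : ℚ) * (3 * (k : ℚ) - 16) / 16) (by
          push_cast
          rw [← hk]
          rw [show (h' : ℂ) * (16 + z + conj z - 16) / 16 = (h' : ℂ) * z / 16 + (h' : ℂ) * conj z / 16 by ring]
          exact hint')
      have hw' : (h' : ℤ) * (3 * (k : ℤ) - 16) = 16 * w := by
        have : ((h' : ℚ) * (3 * (k : ℚ) - 16)) = 16 * (w : ℚ) := by
          have hq : (h' : ℚ) * (3 * (k : ℚ) - 16) / 16 = (w : ℚ) := by exact_mod_cast hw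
          rw [div_eq_iff (by norm_num)] at hq
          linarith
        exact_mod_cast this
      have hodd : Nat.Coprime 16 h' := by
        obtain ⟨j, hj⟩ := h16
        rw [hj, mul_assoc] at hidx
        have h351 : h' ∣ 351 := ⟨j, by
          have : 16 * (j * h') = 16 * 351 := hidx
          linarith⟩
        exact Nat.Coprime.coprime_dvd_right h351 (by norm_num)
      exact (Nat.Coprime.cast hodd).dvd_of_dvd_mul_left ⟨w, hw'⟩
    · obtain ⟨g, hg⟩ := isConj_iff.1 hreal
      have hzz : conj z = z := by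
        rw [hz, ← char_inv (irr_isCharacter (B.μ 0)), ← hg, irr_isClassFunction (B.μ 0) v g]
      obtain ⟨w, hw⟩ := exists_int_of_isIntegral_ratCast
        (q := (h' : ℚ) * (3 * (k : ℚ) - 16) / 32) (by
          push_cast
          rw [← hk, hzz]
          rw [show (h' : ℂ) * (16 + z + z - 16) / 32 = (h' : ℂ) * z / 16 by ring]
          exact hint)
      have hw' : (h' : ℤ) * (3 * (k : ℤ) - 16) = 32 * w := by
        have : ((h' : ℚ) * (3 * (k : ℚ) - 16)) = 32 * (w : ℚ) := by
          have hq : (h' : ℚ) * (3 * (k : ℚ) - 16) / 32 = (w : ℚ) := by exact_mod_cast hw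
          rw [div_eq_iff (by norm_num)] at hq
          linarith
        exact_mod_cast this
      obtain ⟨j, hj⟩ := h8
      rw [hj, mul_assoc] at hidx
      have h702 : h' ∣ 702 := ⟨j, by linarith⟩
      have hco : h' ∣ 351 ∨ ∃ m, h' = 2 * m ∧ m ∣ 351 := by
        have : ∀ d ∈ (702 : ℕ).divisors, d ∣ 351 ∨ d / 2 ∣ 351 ∧ d = 2 * (d / 2) := by decide +kernel
        rcases this h' (Nat.mem_divisors.2 ⟨h702, by norm_num⟩) with e | ⟨e1, e2⟩
        · exact Or.inl e
        · exact Or.inr ⟨_, e2, e1⟩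
      rcases hco with e | ⟨m, hm2, e⟩
      · exact (Nat.Coprime.cast (Nat.Coprime.coprime_dvd_right e (by norm_num : Nat.Coprime 16 351))).dvd_of_dvd_mul_left
          ⟨2 * w, by rw [hw']; ring⟩
      · refine (Nat.Coprime.cast (Nat.Coprime.coprime_dvd_right e (by norm_num : Nat.Coprime 16 351))).dvd_of_dvd_mul_left
          ⟨w, ?_⟩
        rw [hm2] at hw'
        push_cast at hw' ⊢
        linarith
  have hnorm := real_part_bound hk h16
  have horth := congrArg Complex.re (second_orthogonality v v)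
  rw [if_pos (IsConj.refl v), Complex.re_sum, Complex.natCast_re] at horth
  simp only [Complex.mul_conj, Complex.ofReal_re] at horth
  rw [B.sum_split, Fin.sum_univ_four, hμeq 1, hμeq 2, hμeq 3] at horth
  have h0 : 0 ≤ ∑ χ ∈ B.others, Complex.normSq ((χ : G → ℂ) v) :=
    Finset.sum_nonneg fun _ _ => Complex.normSq_nonneg _
  have ha := Complex.normSq_nonneg ((B.a : G → ℂ) v)
  have hb := Complex.normSq_nonneg ((B.b : G → ℂ) v)
  rw [← hz] at horth
  simp only [trivIrr_coe, map_one] at horth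
  have h257 : 257 ≤ Nat.card (centralizer ({v} : Set G)) := by
    have : (257 : ℝ) ≤ (Nat.card (centralizer ({v} : Set G)) : ℝ) := by linarith
    exact_mod_cast this
  have h13 := B.cent13 v hv1 hv13
  have key : ∀ c ∈ (5616 : ℕ).divisors, 257 ≤ c → ¬ 13 ∣ c → 5616 / c = 13 := by decide +kernel
  have h13' : h' = 13 := by
    rw [← key _ (Nat.mem_divisors.2 ⟨h ▸ card_subgroup_dvd_card _, by norm_num⟩) h257 h13, ← hidx,
      Nat.mul_div_cancel_left _ Nat.card_pos]
  have := simple_prime_power_class (p := 13) (k := 1) (by norm_num) hv1 (by rw [← hh', h13']; norm_num)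
  rw [h] at this
  norm_num at this

/-- The possible pairs for an elementary abelian subgroup of order eight. -/
theorem counts (s : Multiset (ℕ × ℤ))
    (hs : ∀ w ∈ s, w ∈ [((1 : ℕ), (-3 : ℤ)), (2, 2), (3, -1), (4, 4), (4, -4)]) :
    ∃ a b c d e : ℕ, (s.map fun w => (w.1 : ℤ) ^ 2).sum = (a : ℤ) + 4 * b + 9 * c + 16 * d + 16 * e ∧
      (s.map fun w => w.2 ^ 2).sum = 9 * (a : ℤ) + 4 * b + c + 16 * d + 16 * e ∧
      (s.map fun w => (w.1 : ℤ) * w.2).sum = -3 * (a : ℤ) + 4 * b - 3 * c + 16 * d - 16 * e := by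
  induction s using Multiset.induction_on with
  | empty => exact ⟨0, 0, 0, 0, 0, by simp⟩
  | cons w s ih =>
    obtain ⟨a, b, c, d, e, h1, h2, h3⟩ := ih fun v hv => hs v (Multiset.mem_cons_of_mem hv)
    have hw := hs w (Multiset.mem_cons_self _ _)
    simp only [List.mem_cons, List.not_mem_nil, or_false] at hw
    rcases hw with rfl | rfl | rfl | rfl | rfl
    · exact ⟨a + 1, b, c, d, e, by simp [h1, h2, h3] <;> refine ⟨?_, ?_, ?_⟩ <;> ring⟩
    · exact ⟨a, b + 1, c, d, e, by simp [h1, h2, h3] <;> refine ⟨?_, ?_, ?_⟩ <;> ring⟩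
    · exact ⟨a, b, c + 1, d, e, by simp [h1, h2, h3] <;> refine ⟨?_, ?_, ?_⟩ <;> ring⟩
    · exact ⟨a, b, c, d + 1, e, by simp [h1, h2, h3] <;> refine ⟨?_, ?_, ?_⟩ <;> ring⟩
    · exact ⟨a, b, c, d, e + 1, by simp [h1, h2, h3] <;> refine ⟨?_, ?_, ?_⟩ <;> ring⟩

theorem pair_spec : ∀ m ∈ List.range 5, 0 < m → ∀ r ∈ [(-4 : ℤ), -3, -2, -1, 0, 1, 2, 3, 4],
    (8 : ℤ) ∣ 13 * (m : ℤ) + 7 * r →
    (m, r) ∈ [((1 : ℕ), (-3 : ℤ)), (2, 2), (3, -1), (4, 4), (4, -4)] := by decide +kernel

/-- There is no elementary abelian subgroup of order eight. -/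
theorem Block.false_of_elementary (B : Block G) [IsSimpleGroup G] (h : Nat.card G = 5616)
    (E : Subgroup G) (hE : Nat.card E = 8) (hE2 : ∀ x ∈ E, x * x = 1) : False := by
  classical
  haveI := Fintype.ofFinite (Cfsg.IrrCharacter G)
  haveI := Fintype.ofFinite E
  haveI : Nontrivial E := Finite.one_lt_card_iff_nontrivial.1 (by rw [hE]; norm_num)
  obtain ⟨⟨t, htE⟩, ht1⟩ := exists_ne (1 : E)
  have hord : ∀ x ∈ E, x ≠ 1 → orderOf x = 2 := fun x hx hx1 =>
    orderOf_eq_prime (by rw [pow_two]; exact hE2 x hx) hx1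
  have ht := hord t htE fun e => ht1 (Subtype.ext e)
  choose r hr using fun χ : Cfsg.IrrCharacter G =>
    CharTheory.DihedralEight.exists_int_value (irr_isCharacter χ) ht
  choose deg hdeg0 hdeg using fun χ : Cfsg.IrrCharacter G => irr_one_pos χ.2
  have h8 : ∀ χ, (8 : ℤ) ∣ (deg χ : ℤ) + 7 * r χ := by
    intro χ
    obtain ⟨k, hk⟩ := sum_subgroup χ E
    rw [hE, ← Finset.add_sum_erase _ _ (Finset.mem_univ (1 : E)),
      Finset.sum_congr rfl (g := fun _ => (r χ : ℂ)) (fun x hx => by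
        have hx1 : (x : G) ≠ 1 := fun e => (Finset.mem_erase.1 hx).1 (Subtype.ext e)
        obtain ⟨g, hg⟩ := isConj_iff.1 (B.one_class h ht (hord x x.2 hx1))
        rw [← hg, irr_isClassFunction χ t g, hr]), Finset.sum_const,
      Finset.card_erase_of_mem (Finset.mem_univ _), Finset.card_univ, ← Nat.card_eq_fintype_card, hE,
      OneMemClass.coe_one, hdeg, nsmul_eq_mul] at hk
    refine ⟨k, ?_⟩
    have : (((deg χ : ℤ) + 7 * r χ : ℤ) : ℂ) = ((8 * (k : ℤ) : ℤ) : ℂ) := by
      push_cast at hk ⊢; exact hk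
    exact_mod_cast this
  obtain ⟨hta, htb, htc⟩ := B.involution h ht
  obtain ⟨n1, n2, n3, n4, n5, n6⟩ := B.ne
  have r1 : r (trivIrr G) = 1 := by
    have := hr (trivIrr G); simp only [trivIrr_coe] at this; exact_mod_cast this.symm
  have ra : r B.a = 4 := by rw [hr] at hta; exact_mod_cast hta
  have rb : r B.b = 3 := by rw [hr] at htb; exact_mod_cast htb
  have rm : ∀ i, r (B.μ i) = 0 := fun i => by
    have := B.mu_even h i (g := t) (ht ▸ dvd_rfl); rw [hr] at this; exact_mod_cast this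
  have d1 : deg (trivIrr G) = 1 := by
    have := hdeg (trivIrr G); simp only [trivIrr_coe] at this; exact_mod_cast this.symm
  have da : deg B.a = 12 := by have := hdeg B.a; rw [B.deg_a] at this; exact_mod_cast this.symm
  have db : deg B.b = 27 := by have := hdeg B.b; rw [B.deg_b] at this; exact_mod_cast this.symm
  have dm : ∀ i, deg (B.μ i) = 16 := fun i => by
    have := hdeg (B.μ i); rw [B.deg_μ] at this; exact_mod_cast this.symm
  have hm : ∀ χ ∈ B.others, deg χ = 13 * (deg χ / 13) := by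
    intro χ hχ
    simp only [Block.others, Finset.mem_sdiff, Finset.mem_union, Finset.mem_insert, Finset.mem_singleton,
      Finset.mem_image, Finset.mem_univ, true_and, not_or, not_exists] at hχ
    obtain ⟨m, hm⟩ := B.rest χ hχ.1.1 hχ.1.2.1 hχ.1.2.2 hχ.2
    rw [hdeg, Nat.cast_inj] at hm
    rw [hm, Nat.mul_div_cancel_left _ (by norm_num : 0 < 13)]
  have hone : ¬ IsConj (1 : G) t := fun e => by
    rw [isConj_one_right] at e
    rw [e, orderOf_one] at ht
    norm_num at ht
  have o1 := second_orthogonality (1 : G) t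
  have o2 := second_orthogonality t t
  rw [if_neg hone] at o1
  rw [if_pos (IsConj.refl t), htc] at o2
  simp only [hdeg, hr, map_intCast] at o1 o2
  have q1 : ∑ χ, (deg χ : ℤ) * r χ = 0 := by exact_mod_cast o1
  have q2 : ∑ χ, r χ * r χ = 48 := by exact_mod_cast o2
  have q3 : ∑ χ, (deg χ : ℤ) * deg χ = 5616 := by
    have h1 := sum_degree_sq (G := G)
    simp only [hdeg, h, sq] at h1
    exact_mod_cast h1
  rw [B.sum_split, Fin.sum_univ_four] at q1 q2 q3
  simp only [r1, ra, rb, rm, d1, da, db, dm] at q1 q2 q3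
  have q1' : ∑ χ ∈ B.others, (deg χ : ℤ) * r χ = 13 * ∑ χ ∈ B.others, ((deg χ / 13 : ℕ) : ℤ) * r χ := by
    rw [Finset.mul_sum]
    exact Finset.sum_congr rfl fun χ hχ => by
      conv_lhs => rw [hm χ hχ]
      push_cast
      ring
  have q3' : ∑ χ ∈ B.others, (deg χ : ℤ) * deg χ = 169 * ∑ χ ∈ B.others, ((deg χ / 13 : ℕ) : ℤ) ^ 2 := by
    rw [Finset.mul_sum]
    exact Finset.sum_congr rfl fun χ hχ => by
      conv_lhs => rw [hm χ hχ]
      push_cast
      ring
  have q2' : ∑ χ ∈ B.others, r χ * r χ = ∑ χ ∈ B.others, r χ ^ 2 :=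
    Finset.sum_congr rfl fun χ _ => by ring
  rw [q1'] at q1
  rw [q2'] at q2
  rw [q3'] at q3
  simp only [Nat.cast_one, Nat.cast_ofNat, one_mul, mul_zero, zero_mul, add_zero] at q1 q2 q3
  obtain ⟨a, b, c, d, e, c1, c2, c3⟩ := counts (B.others.val.map fun χ => (deg χ / 13, r χ)) (by
    intro w hw
    obtain ⟨χ, hχ, rfl⟩ := Multiset.mem_map.1 hw
    have hr2 := Finset.single_le_sum (fun χ _ => sq_nonneg (r χ)) hχ
    have hm2 := Finset.single_le_sum (fun χ _ => sq_nonneg (((deg χ / 13 : ℕ) : ℤ))) hχ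
    have hr4 : r χ ≤ 4 := by nlinarith
    have hr4' : -4 ≤ r χ := by nlinarith
    have hm4 : deg χ / 13 < 5 := by
      by_contra hbig
      have : (5 : ℤ) ≤ ((deg χ / 13 : ℕ) : ℤ) := by exact_mod_cast not_lt.1 hbig
      nlinarith
    have h8' := h8 χ
    rw [hm χ hχ] at h8'
    refine pair_spec _ (List.mem_range.2 hm4) ?_ _ (by simp; omega) (by push_cast at h8' ⊢; exact h8')
    have := hdeg0 χ
    have := hm χ hχ
    omega)
  simp only [Multiset.map_map, Function.comp_def] at c1 c2 c3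
  simp only [Finset.sum] at q1 q2 q3
  omega

end Cfsg.Agent.SmallSimple.Order5616
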